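import Cfsg.Agent.Lib.AltPres.Projective

/-!
# A bounded presentation of the alternating group on `p + 3` points
-/

set_option autoImplicit false

namespace CfsgLib.AltPres

open CfsgLib.SLPres Equiv

section Cycles

variable {Ω : Type*} [Fintype Ω] [DecidableEq Ω]

/-- The three-cycle through the two extra points and `i`. -/
def cyc3 (i : Ω) : Perm (Bool ⊕ Ω) :=
  swap (Sum.inl false) (Sum.inl true) * swap (Sum.inl true) (Sum.inr i)

theorem cyc3_mem (i : Ω) : cyc3 i ∈ alternatingGroup (Bool ⊕ Ω) := by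
  simp [cyc3, Perm.mem_alternatingGroup, Perm.sign_swap]

/-- The three-cycle as an even permutation. -/
def cycA (i : Ω) : alternatingGroup (Bool ⊕ Ω) := ⟨cyc3 i, cyc3_mem i⟩

theorem cycA_cube (i : Ω) : cycA i * cycA i * cycA i = 1 := by
  apply Subtype.ext
  ext1 x
  rcases x with (_ | _) | x
  · simp [cycA, cyc3, swap_apply_def]
  · simp [cycA, cyc3, swap_apply_def]
  · by_cases h : x = i <;> simp [cycA, cyc3, swap_apply_def, h]

theorem cycA_pair (i j : Ω) (hij : i ≠ j) : cycA i * cycA j * (cycA i * cycA j) = 1 := by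
  apply Subtype.ext
  ext1 x
  rcases x with (_ | _) | x
  · simp [cycA, cyc3, swap_apply_def, hij, hij.symm]
  · simp [cycA, cyc3, swap_apply_def, hij, hij.symm]
  · by_cases hi : x = i
    · subst hi; simp [cycA, cyc3, swap_apply_def, hij, hij.symm]
    · by_cases hj : x = j
      · subst hj; simp [cycA, cyc3, swap_apply_def, hij, hij.symm]
      · simp [cycA, cyc3, swap_apply_def, hi, hj]

/-- Conjugating by a permutation fixing the two extra points. -/
theorem cyc3_conj (g : Perm (Bool ⊕ Ω)) (hb : ∀ b, g (Sum.inl b) = Sum.inl b) (i j : Ω)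
    (hij : g (Sum.inr i) = Sum.inr j) : g * cyc3 i * g⁻¹ = cyc3 j := by
  rw [cyc3, cyc3, show g * (swap (Sum.inl false) (Sum.inl true) * swap (Sum.inl true) (Sum.inr i)) * g⁻¹ =
    (g * swap (Sum.inl false) (Sum.inl true) * g⁻¹) * (g * swap (Sum.inl true) (Sum.inr i) * g⁻¹) by
      group, ← swap_apply_apply, ← swap_apply_apply, hb, hb, hij]

/-- Conjugating by a permutation exchanging the two extra points. -/
theorem cyc3_conj_swap (g : Perm (Bool ⊕ Ω)) (hb : ∀ b, g (Sum.inl b) = Sum.inl (!b)) (i j : Ω)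
    (hij : g (Sum.inr i) = Sum.inr j) : g * cyc3 i * g⁻¹ = (cyc3 j)⁻¹ := by
  rw [cyc3, cyc3, show g * (swap (Sum.inl false) (Sum.inl true) * swap (Sum.inl true) (Sum.inr i)) * g⁻¹ =
    (g * swap (Sum.inl false) (Sum.inl true) * g⁻¹) * (g * swap (Sum.inl true) (Sum.inr i) * g⁻¹) by
      group, ← swap_apply_apply, ← swap_apply_apply, hb, hb, hij, mul_inv_rev, swap_inv, swap_inv]
  ext1 x
  rcases x with (_ | _) | x
  · simp [swap_apply_def]
  · simp [swap_apply_def]
  · by_cases h : x = j <;> simp [swap_apply_def, h]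

theorem closure_cycA : Subgroup.closure (Set.range (cycA (Ω := Ω))) = ⊤ := by
  set H := (Subgroup.closure (Set.range (cycA (Ω := Ω)))).map (alternatingGroup (Bool ⊕ Ω)).subtype
    with hH
  have hmem : ∀ i : Ω, cyc3 i ∈ H := fun i => ⟨cycA i, Subgroup.subset_closure ⟨i, rfl⟩, rfl⟩
  set s : Perm (Bool ⊕ Ω) := swap (Sum.inl false) (Sum.inl true) with hs
  have hsw : ∀ i, s * cyc3 i * s⁻¹ = (cyc3 i)⁻¹ := fun i => by
    refine cyc3_conj_swap s (fun b => ?_) i i ?_
    · cases b <;> simp [hs]
    · simp [hs, swap_apply_def]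
  have hnorm : ∀ x ∈ H, s * x * s⁻¹ ∈ H := by
    intro x hx
    have hle : H ≤ H.comap (MulAut.conj s).toMonoidHom := by
      rw [hH, MonoidHom.map_closure, Subgroup.closure_le]
      rintro _ ⟨_, ⟨i, rfl⟩, rfl⟩
      show s * cyc3 i * s⁻¹ ∈ Subgroup.closure _
      rw [hsw]
      exact inv_mem (Subgroup.subset_closure ⟨_, ⟨i, rfl⟩, rfl⟩)
    exact hle hx
  have hss : s * s = 1 := swap_mul_self _ _
  let K : Subgroup (Perm (Bool ⊕ Ω)) :=
    { carrier := {g | g ∈ H ∨ s * g ∈ H}
      one_mem' := Or.inl (one_mem H)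
      mul_mem' := by
        have hs' : s⁻¹ = s := swap_inv _ _
        rintro g g' (hg | hg) (hg' | hg')
        · exact Or.inl (mul_mem hg hg')
        · refine Or.inr ?_
          have := mul_mem (hnorm g hg) hg'
          rwa [hs', mul_assoc, ← mul_assoc s s, hss, one_mul, mul_assoc] at this
        · exact Or.inr (by rw [← mul_assoc]; exact mul_mem hg hg')
        · refine Or.inl ?_
          have := mul_mem (hnorm _ hg) hg'
          rwa [hs', ← mul_assoc s s, hss, one_mul, mul_assoc, ← mul_assoc s s, hss, one_mul] at this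
      inv_mem' := by
        have hs' : s⁻¹ = s := swap_inv _ _
        rintro g (hg | hg)
        · exact Or.inl (inv_mem hg)
        · refine Or.inr ?_
          have := hnorm _ (inv_mem hg)
          rwa [mul_inv_rev, hs', mul_assoc, mul_assoc g⁻¹, hss, mul_one] at this }
  have hsK : s ∈ K := Or.inr (by rw [hss]; exact one_mem H)
  have htr : ∀ i, swap (Sum.inl true) (Sum.inr i) ∈ K := fun i => by
    have : swap (Sum.inl true) (Sum.inr i) = s * cyc3 i := by
      rw [cyc3, ← mul_assoc, ← hs, hss, one_mul]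
    rw [this]
    exact mul_mem hsK (Or.inl (hmem i))
  have hall : ∀ x : Bool ⊕ Ω, x ≠ Sum.inl true → swap (Sum.inl true) x ∈ K := by
    intro x hx
    rcases x with (_ | _) | i
    · rw [swap_comm]; exact hsK
    · exact absurd rfl hx
    · exact htr i
  have hswaps : ∀ x z : Bool ⊕ Ω, x ≠ z → swap x z ∈ K := by
    intro x z hxz
    by_cases hx : x = Sum.inl true
    · subst hx; exact hall z (Ne.symm hxz)
    · by_cases hz : z = Sum.inl true
      · subst hz; rw [swap_comm]; exact hall x hx
      · have e := mul_mem (mul_mem (hall x hx) (hall z hz)) (inv_mem (hall x hx))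
        rwa [← swap_apply_apply, swap_apply_left, swap_apply_of_ne_of_ne hz (Ne.symm hxz)] at e
  have hK : K = ⊤ := by
    rw [eq_top_iff, ← Perm.closure_isSwap, Subgroup.closure_le]
    rintro g ⟨x, z, hxz, rfl⟩
    exact hswaps x z hxz
  rw [eq_top_iff]
  intro g _
  have hg : (g : Perm (Bool ⊕ Ω)) ∈ K := by rw [hK]; trivial
  rcases hg with hg | hg
  · obtain ⟨g', hg', e⟩ := hg
    rwa [← Subtype.ext (a2 := g) e]
  · obtain ⟨g', -, e⟩ := hg
    exfalso
    have h1 : Perm.sign (s * (g : Perm (Bool ⊕ Ω))) = 1 := by rw [← e]; exact g'.2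
    rw [map_mul, g.2, mul_one, hs, Perm.sign_swap (by simp)] at h1
    exact absurd h1 (by decide)

/-- A family with Carmichael's relations is no larger than the alternating group. -/
theorem card_of_family {G : Type*} [Group G] (y : Ω → G) (h3 : ∀ i, y i * y i * y i = 1)
    (h2 : ∀ i j, i ≠ j → y i * y j * (y i * y j) = 1) (hgen : Subgroup.closure (Set.range y) = ⊤) :
    Finite G ∧ Nat.card G ≤ Nat.card (alternatingGroup (Bool ⊕ Ω)) := by
  classical
  obtain ⟨hf, hc⟩ := carmichael_card h3 h2 Finset.univ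
  rw [Finset.coe_univ, Set.image_univ, hgen] at hc hf
  rw [Finset.card_univ] at hc
  haveI : Finite G := Finite.of_equiv _ Subgroup.topEquiv.toEquiv
  refine ⟨this, ?_⟩
  rw [Subgroup.card_top] at hc
  haveI : Nontrivial (Bool ⊕ Ω) := ⟨Sum.inl true, Sum.inl false, by simp⟩
  have h := two_mul_card_alternatingGroup (α := Bool ⊕ Ω)
  rw [Fintype.card_perm, Fintype.card_sum, Fintype.card_bool, add_comm] at h
  rw [Nat.card_eq_fintype_card (α := alternatingGroup (Bool ⊕ Ω))]
  omega

end Cycles

variable (p : ℕ) [Fact p.Prime]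

/-- Fourteen relations on four generators present `A_{p+3}`. -/
theorem line_presentation (hp : p ≠ 2) :
    ∃ (L : List (FreeGroup (Fin 4)))
      (π : FreeGroup (Fin 4) →* alternatingGroup (Bool ⊕ Option (ZMod p))),
      L.length ≤ 14 ∧ Function.Surjective π ∧ (∀ r ∈ L, π r = 1) ∧
      ∀ (G : Type) [Group G] (ψ : FreeGroup (Fin 4) →* G), (∀ r ∈ L, ψ r = 1) →
        ∃ θ : alternatingGroup (Bool ⊕ Option (ZMod p)) →* G, ∀ x, θ (π x) = ψ x := by
  classical
  obtain ⟨μ, hμ, -, -, hgen⟩ := exists_primitive (F := ZMod p)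
  obtain ⟨L₀, hL₀, hT₀, hG₀⟩ := exists_rels p hp μ hμ hgen 0 0 (-1)
  set ι : FreeGroup (Fin 3) →* FreeGroup (Fin 4) := FreeGroup.map Fin.castSucc
  set U : FreeGroup (Fin 4) := .of 0
  set H : FreeGroup (Fin 4) := .of 1
  set W : FreeGroup (Fin 4) := .of 2
  set Y : FreeGroup (Fin 4) := .of 3
  set hμ2 := mul_ne_zero hμ hμ
  have O := oddData_line (p := p) hμ
  -- the generators are even
  have hsu : ∀ t : ZMod p, Perm.sign (lineU t : Perm (Option (ZMod p))) = 1 := by
    intro t
    have h1 : (lineU t : Perm (Option (ZMod p))) ^ p = 1 := by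
      rw [O.root.pow, CharP.cast_eq_zero, zero_mul, O.root.zero]
    have h2 : Perm.sign (lineU t : Perm (Option (ZMod p))) ^ p = 1 := by rw [← map_pow, h1, map_one]
    rcases Int.units_eq_one_or (Perm.sign (lineU t : Perm (Option (ZMod p)))) with e | e
    · exact e
    · rw [e, ((Fact.out : p.Prime).odd_of_ne_two hp).neg_one_pow] at h2
      exact absurd h2 (by decide)
  have hsw : Perm.sign (lineW : Perm (Option (ZMod p))) = 1 := by
    have := congrArg Perm.sign O.rel_one
    rw [zpow_zero, mul_one] at this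
    simpa [map_mul, hsu] using this.symm
  have hsh : Perm.sign (lineH (μ * μ) hμ2 : Perm (Option (ZMod p))) = 1 := by
    have e : (lineH (μ * μ) hμ2 : Perm (Option (ZMod p))) = lineH μ hμ * lineH μ hμ := by
      ext1 o; rcases o with _ | t <;> simp [mul_assoc]
    rw [e, map_mul, Int.units_mul_self]
  let ext : Perm (Option (ZMod p)) →* Perm (Bool ⊕ Option (ZMod p)) :=
    (Perm.sumCongrHom Bool (Option (ZMod p))).comp (MonoidHom.inr (Perm Bool) (Perm (Option (ZMod p))))
  have hext : ∀ g, Perm.sign (ext g) = Perm.sign g := fun g => by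
    simp [ext, Perm.sumCongrHom_apply]
  let π : FreeGroup (Fin 4) →* alternatingGroup (Bool ⊕ Option (ZMod p)) :=
    FreeGroup.lift ![⟨ext (lineU 1), by rw [Perm.mem_alternatingGroup, hext]; exact hsu 1⟩,
      ⟨ext (lineH (μ * μ) hμ2), by rw [Perm.mem_alternatingGroup, hext]; exact hsh⟩,
      ⟨ext lineW, by rw [Perm.mem_alternatingGroup, hext]; exact hsw⟩, cycA none]
  have sgn : ∀ t, (⟨ext (lineU t), by rw [Perm.mem_alternatingGroup, hext]; exact hsu t⟩ :
      alternatingGroup (Bool ⊕ Option (ZMod p))) = ⟨ext (lineU t), by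
        rw [Perm.mem_alternatingGroup, hext]; exact hsu t⟩ := fun _ => rfl
  let φT : ZMod p → alternatingGroup (Bool ⊕ Option (ZMod p)) :=
    fun t => ⟨ext (lineU t), by rw [Perm.mem_alternatingGroup, hext]; exact hsu t⟩
  have hDT : OddData _ (π U) (π H) (π W) φT μ 0 0 (-1) := by
    refine ⟨⟨fun s t => Subtype.ext ?_, Subtype.ext ?_, fun t => Subtype.ext ?_⟩, Subtype.ext ?_,
      Subtype.ext ?_, Subtype.ext ?_, Subtype.ext ?_⟩ <;>
      simp only [φT, π, U, H, W, FreeGroup.lift_apply_of, Subgroup.coe_mul, InvMemClass.coe_inv,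
        SubgroupClass.coe_zpow, Matrix.cons_val_zero, Matrix.cons_val_one, Matrix.cons_val]
    · rw [O.root.add, map_mul]
    · rw [← map_inv, ← map_mul, ← map_mul, O.root.conj]
    · rw [← map_inv, ← map_mul, ← map_mul, O.inv, map_inv]
    · rw [← map_mul, O.sq, map_zpow]
    · simp only [← map_zpow, ← map_mul, O.rel_one]
    · simp only [← map_zpow, ← map_mul, O.rel_gen]
  have hbool : ∀ g b, ext g (Sum.inl b) = Sum.inl b := fun g b => by simp [ext, Perm.sumCongrHom_apply]
  have hline : ∀ g o, ext g (Sum.inr o) = Sum.inr (g o) := fun g o => by simp [ext, Perm.sumCongrHom_apply]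
  have hconjY : ∀ (g : Perm (Option (ZMod p))) (hg : ext g ∈ alternatingGroup (Bool ⊕ Option (ZMod p)))
      (i : Option (ZMod p)), (⟨ext g, hg⟩ : alternatingGroup (Bool ⊕ Option (ZMod p))) * cycA i *
        (⟨ext g, hg⟩ : alternatingGroup (Bool ⊕ Option (ZMod p)))⁻¹ = cycA (g i) :=
    fun g hg i => Subtype.ext (cyc3_conj _ (hbool g) i (g i) (hline g i))
  have hπY : π Y = cycA none := by simp [π, Y]
  have hfam : ∀ i, lineFam φT (π W) (π Y) i = cycA i := by
    rintro (_ | t)
    · exact hπY
    · simp only [lineFam, Option.elim_some, hπY]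
      rw [show π W * cycA none * (π W)⁻¹ = cycA (some 0) by
        simp only [π, W, FreeGroup.lift_apply_of, Matrix.cons_val]
        rw [hconjY]; rfl]
      simp only [φT]
      rw [hconjY]; simp
  have hsurj : Function.Surjective π := by
    rw [← MonoidHom.range_eq_top, eq_top_iff, ← closure_cycA, Subgroup.closure_le]
    rintro _ ⟨i, rfl⟩
    rw [← hfam i]
    have hU : ∀ t, φT t ∈ π.range := fun t => by
      rw [← ZMod.natCast_zmod_val t, show ((t.val : ℕ) : ZMod p) = (t.val : ZMod p) * 1 by rw [mul_one],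
        ← hDT.root.pow, hDT.root.one]
      exact pow_mem (MonoidHom.mem_range.mpr ⟨U, rfl⟩) _
    rcases i with _ | t
    · exact ⟨Y, rfl⟩
    · simp only [lineFam, Option.elim_some, SetLike.mem_coe]
      exact mul_mem (mul_mem (hU t) (mul_mem (mul_mem ⟨W, rfl⟩ ⟨Y, rfl⟩) (inv_mem ⟨W, rfl⟩)))
        (inv_mem (hU t))
  -- `u` as a product of cycles, lifted
  let fw : Option (ZMod p) → FreeGroup (Fin 4) := lineFam (fun t => U ^ t.val) W Y
  have hfw : ∀ (G : Type) [Group G] (ψ : FreeGroup (Fin 4) →* G) (φ : ZMod p → G),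
      (∀ t, φ t = ψ U ^ t.val) → ∀ i, ψ (fw i) = lineFam φ (ψ W) (ψ Y) i := by
    intro G _ ψ φ hφ i
    rcases i with _ | t <;> simp [fw, lineFam, hφ]
  have hTfw : ∀ i, π (fw i) = cycA i := by
    intro i
    rw [← hfam i]
    have hφ : ∀ t : ZMod p, φT t = π U ^ t.val := fun t => by
      rw [← hDT.root.one, hDT.root.pow, mul_one, ZMod.natCast_zmod_val]
    rcases i with _ | t <;> simp [fw, lineFam, hφ]
  obtain ⟨uw, huw, hπuw⟩ : ∃ x ∈ Subgroup.closure (Set.range fw), π x = π U := by
    have : π U ∈ (Subgroup.closure (Set.range fw)).map π := by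
      rw [MonoidHom.map_closure, ← Set.range_comp,
        show (π ∘ fw) = cycA from funext hTfw, closure_cycA]
      trivial
    exact Subgroup.mem_map.mp this
  refine ⟨L₀.map ι ++ [Y ^ 3, U * Y * U⁻¹ * Y⁻¹, H * Y * H⁻¹ * Y⁻¹,
    (Y * (W * Y * W⁻¹)) ^ 2, uw * U⁻¹], π,
    by simp only [List.length_append, List.length_map, List.length_cons, List.length_nil]; omega,
    hsurj, fun r hr => ?_, fun G _ ψ hL => ?_⟩
  · simp only [List.mem_append, List.mem_map, List.mem_cons, List.not_mem_nil, or_false] at hr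
    rcases hr with ⟨r, hr, rfl⟩ | rfl | rfl | rfl | rfl | rfl
    · exact hT₀ _ (π.comp ι) φT (by simpa [ι, U, H, W] using hDT) r hr
    · rw [map_pow, hπY, pow_succ, pow_two, cycA_cube]
    · simp only [map_mul, map_inv, mul_inv_eq_one, hπY, π, U, FreeGroup.lift_apply_of,
        Matrix.cons_val_zero]
      rw [hconjY]; rfl
    · simp only [map_mul, map_inv, mul_inv_eq_one, hπY, π, H, FreeGroup.lift_apply_of,
        Matrix.cons_val_one, Matrix.cons_val]
      rw [hconjY]; rfl
    · rw [map_pow, pow_two, map_mul, map_mul, map_mul, map_inv]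
      have := cycA_pair (none : Option (ZMod p)) (some 0) (by simp)
      rw [← hfam none, ← hfam (some 0)] at this
      simpa [lineFam, hDT.root.zero] using this
    · rw [map_mul, map_inv, hπuw, mul_inv_cancel]
  · have hmem := fun r hr => hL r (List.mem_append_right (L₀.map ι) hr)
    simp only [List.forall_mem_cons, List.not_mem_nil, IsEmpty.forall_iff, implies_true, and_true,
      map_mul, map_inv, map_pow, mul_inv_eq_one] at hmem
    obtain ⟨hy3, hyu, hyh, hpair, hu⟩ := hmem
    obtain ⟨φ, D₀⟩ := hG₀ G (ψ.comp ι)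
      (fun r hr => hL _ (List.mem_append_left _ (List.mem_map.mpr ⟨r, hr, rfl⟩)))
    simp only [MonoidHom.comp_apply, ι, FreeGroup.map.of] at D₀
    have D : LineData (ψ U) (ψ H) (ψ W) (ψ Y) φ μ :=
      ⟨D₀, hμ, hgen, by rw [← pow_two, ← pow_succ]; exact hy3, hyu, hyh, by rw [← pow_two]; exact hpair⟩
    set fam := lineFam φ (ψ W) (ψ Y) with hfamdef
    set N := Subgroup.closure (Set.range fam) with hN
    have hfψ : ∀ i, ψ (fw i) = fam i := hfw G ψ φ D.phi_pow
    have huN : ψ U ∈ N := by
      rw [← hu, hN, show fam = ψ ∘ fw from (funext hfψ).symm, Set.range_comp, ← MonoidHom.map_closure]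
      exact ⟨uw, huw, rfl⟩
    obtain ⟨hhN, hwN, hyN⟩ := D.mem_closure huN
    -- compare with the presented group
    have hψN : ∀ x, ψ x ∈ N := by
      intro x
      induction x using FreeGroup.induction_on with
      | C1 => simpa using one_mem N
      | of i => fin_cases i <;> assumption
      | inv_of i ih => rw [map_inv]; exact inv_mem ih
      | mul x y hx hy => rw [map_mul]; exact mul_mem hx hy
    let ψ' : FreeGroup (Fin 4) →* N := ψ.codRestrict N hψN
    let yN : Option (ZMod p) → N := fun i => ⟨fam i, Subgroup.subset_closure ⟨i, rfl⟩⟩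
    obtain ⟨hfin, hle⟩ := card_of_family yN (fun i => Subtype.ext (D.fam_cube i))
      (fun i j hij => Subtype.ext (D.fam_pair i j hij)) (by
        have hc := Subgroup.closure_closure_coe_preimage (k := Set.range fam)
        convert hc using 2
        ext ⟨x, hx⟩
        simp [yN, Subtype.ext_iff, eq_comm])
    -- both groups are images of one group, which is no larger than the model
    let Ψ : FreeGroup (Fin 4) →* N × alternatingGroup (Bool ⊕ Option (ZMod p)) := ψ'.prod π
    have hsurjN : Function.Surjective ψ' := by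
      rw [← MonoidHom.range_eq_top, eq_top_iff]
      rintro ⟨x, hx⟩ -
      have : x ∈ Subgroup.map ψ (Subgroup.closure (Set.range fw)) := by
        rw [MonoidHom.map_closure, ← Set.range_comp, show ψ ∘ fw = fam from funext hfψ]; exact hx
      obtain ⟨z, -, rfl⟩ := this
      exact ⟨z, rfl⟩
    set R := Ψ.range
    let f₂ : R →* alternatingGroup (Bool ⊕ Option (ZMod p)) := (MonoidHom.snd _ _).comp R.subtype
    have hf₂ : Function.Surjective f₂ := fun a => by
      obtain ⟨x, rfl⟩ := hsurj a
      exact ⟨⟨_, ⟨x, rfl⟩⟩, rfl⟩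
    let yR : Option (ZMod p) → R := fun i => ⟨Ψ (fw i), ⟨_, rfl⟩⟩
    have key : ∀ a b : N × alternatingGroup (Bool ⊕ Option (ZMod p)),
        a.1 = b.1 → a.2 = b.2 → a = b := fun a b h1 h2 => Prod.ext h1 h2
    have hy3' : ∀ i, yR i * yR i * yR i = 1 := fun i => Subtype.ext (key _ _
      (Subtype.ext (by show ψ (fw i) * ψ (fw i) * ψ (fw i) = 1; rw [hfψ]; exact D.fam_cube i))
      (by show π (fw i) * π (fw i) * π (fw i) = 1; rw [hTfw]; exact cycA_cube i))
    have hy2' : ∀ i j, i ≠ j → yR i * yR j * (yR i * yR j) = 1 := fun i j hij => Subtype.ext (key _ _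
      (Subtype.ext (by
        show ψ (fw i) * ψ (fw j) * (ψ (fw i) * ψ (fw j)) = 1
        rw [hfψ, hfψ]; exact D.fam_pair i j hij))
      (by show π (fw i) * π (fw j) * (π (fw i) * π (fw j)) = 1; rw [hTfw, hTfw]; exact cycA_pair i j hij))
    have hRgen : Subgroup.closure (Set.range yR) = ⊤ := by
      set S := (Subgroup.closure (Set.range fw)).map Ψ.rangeRestrict with hS
      have hS' : Subgroup.closure (Set.range yR) = S := by
        rw [hS, MonoidHom.map_closure, ← Set.range_comp]; rfl
      rw [hS', eq_top_iff]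
      rintro ⟨_, x, rfl⟩ -
      -- every generator lies in the closure of the lifted family modulo the kernel
      have hgenS : ∀ z, Ψ.rangeRestrict z ∈ S := by
        have hu' : Ψ.rangeRestrict U ∈ S := ⟨uw, huw, Subtype.ext (key _ _
          (Subtype.ext hu) hπuw)⟩
        have DR : LineData (Ψ.rangeRestrict U) (Ψ.rangeRestrict H) (Ψ.rangeRestrict W)
            (Ψ.rangeRestrict Y) (fun t : ZMod p => Ψ.rangeRestrict U ^ t.val) μ := by
          obtain ⟨φR, DR₀⟩ := hG₀ R (Ψ.rangeRestrict.comp ι) (fun r hr => by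
            refine Subtype.ext (key _ _ (Subtype.ext ?_) ?_)
            · exact hL _ (List.mem_append_left _ (List.mem_map.mpr ⟨r, hr, rfl⟩))
            · exact hT₀ _ (π.comp ι) φT (by simpa [ι, U, H, W] using hDT) r hr)
          simp only [MonoidHom.comp_apply, ι, FreeGroup.map.of] at DR₀
          have e : φR = fun t => Ψ.rangeRestrict U ^ t.val := funext fun t => by
            have h1 := DR₀.root.pow 1 t.val
            rw [DR₀.root.one, mul_one, ZMod.natCast_zmod_val] at h1
            exact h1.symm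
          rw [← e]
          have hφT : ∀ t, φT t = π U ^ t.val := fun t => by
            rw [← hDT.root.one, hDT.root.pow, mul_one, ZMod.natCast_zmod_val]
          refine ⟨DR₀, hμ, hgen, ?_, ?_, ?_, ?_⟩ <;>
            refine Subtype.ext (key _ _ (Subtype.ext ?_) ?_)
          · exact D.cube
          · show π Y * π Y * π Y = 1
            rw [hπY]; exact cycA_cube none
          · exact D.fix_u
          · show π U * π Y * (π U)⁻¹ = π Y
            simp only [hπY, π, U, FreeGroup.lift_apply_of, Matrix.cons_val_zero]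
            rw [hconjY]; rfl
          · exact D.fix_h
          · show π H * π Y * (π H)⁻¹ = π Y
            simp only [hπY, π, H, FreeGroup.lift_apply_of, Matrix.cons_val_one, Matrix.cons_val]
            rw [hconjY]; rfl
          · exact D.pair
          · show π Y * (π W * π Y * (π W)⁻¹) * (π Y * (π W * π Y * (π W)⁻¹)) = 1
            have := cycA_pair (none : Option (ZMod p)) (some 0) (by simp)
            rw [← hfam none, ← hfam (some 0)] at this
            simpa [lineFam, hDT.root.zero] using this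
        have hfR : lineFam (fun t : ZMod p => Ψ.rangeRestrict U ^ t.val) (Ψ.rangeRestrict W)
            (Ψ.rangeRestrict Y) = Ψ.rangeRestrict ∘ fw := by
          funext i; rcases i with _ | t <;> simp [fw, lineFam]
        have hSc : Subgroup.closure (Set.range (lineFam (fun t : ZMod p => Ψ.rangeRestrict U ^ t.val)
            (Ψ.rangeRestrict W) (Ψ.rangeRestrict Y))) = S := by
          rw [hS, MonoidHom.map_closure, hfR, Set.range_comp]
        obtain ⟨a1, a2, a3⟩ := DR.mem_closure (by rw [hSc]; exact hu')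
        rw [hSc] at a1 a2 a3
        intro z
        induction z using FreeGroup.induction_on with
        | C1 => simpa using one_mem S
        | of i => fin_cases i <;> assumption
        | inv_of i ih => rw [map_inv]; exact inv_mem ih
        | mul x y hx hy => rw [map_mul]; exact mul_mem hx hy
      exact hgenS x
    obtain ⟨hRfin, hRle⟩ := card_of_family yR hy3' hy2' hRgen
    have hbij : Function.Bijective f₂ := (Nat.bijective_iff_surjective_and_card _).mpr
      ⟨hf₂, le_antisymm hRle (Nat.card_le_card_of_surjective f₂ hf₂)⟩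
    let e₂ := MulEquiv.ofBijective f₂ hbij
    refine ⟨N.subtype.comp ((MonoidHom.fst _ _).comp (R.subtype.comp e₂.symm.toMonoidHom)), fun x => ?_⟩
    have : e₂.symm (π x) = ⟨Ψ x, x, rfl⟩ := by
      rw [MulEquiv.symm_apply_eq]; rfl
    simp [this, Ψ, ψ']

end CfsgLib.AltPres
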