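import Mathlib

/-!
# Carmichael's bound: elements of order three with products of order two
-/

set_option autoImplicit false

namespace CfsgLib.AltPres

variable {G ι : Type*} [Group G] {y : ι → G}

theorem sq_eq_inv (h3 : ∀ i, y i * y i * y i = 1) (i : ι) : (y i)⁻¹ = y i * y i :=
  inv_eq_of_mul_eq_one_left (h3 i)

theorem carmichael_card [DecidableEq ι] (h3 : ∀ i, y i * y i * y i = 1)
    (h2 : ∀ i j, i ≠ j → y i * y j * (y i * y j) = 1) (S : Finset ι) :
    Finite (Subgroup.closure (y '' (S : Set ι))) ∧
      2 * Nat.card (Subgroup.closure (y '' (S : Set ι))) ≤ (S.card + 2).factorial := by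
  have hswap : ∀ i j, i ≠ j → y i * y j = (y j)⁻¹ * (y i)⁻¹ := fun i j hij => by
    rw [← mul_inv_rev]; exact (inv_eq_of_mul_eq_one_left (h2 i j hij)).symm
  induction S using Finset.induction_on with
  | empty => rw [Finset.coe_empty, Set.image_empty, Subgroup.closure_empty]; exact ⟨inferInstance, by simp⟩
  | @insert i S hiS ih =>
    obtain ⟨hfin, hcard⟩ := ih
    set P := Subgroup.closure (y '' (S : Set ι)) with hP
    have hyP : ∀ j ∈ S, y j ∈ P := fun j hj => Subgroup.subset_closure ⟨j, hj, rfl⟩
    let rep : Option (Bool ⊕ S) → G := fun o => o.elim 1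
      (Sum.elim (fun b => if b then y i else y i * y i) (fun j => y i * y i * y (j : ι)))
    let T : Set G := {g | ∃ q ∈ P, ∃ o, g = q * rep o}
    have mk0 : ∀ q ∈ P, q ∈ T := fun q hq => ⟨q, hq, none, by simp [rep]⟩
    have mk1 : ∀ q ∈ P, q * y i ∈ T := fun q hq => ⟨q, hq, some (Sum.inl true), by simp [rep]⟩
    have mk2 : ∀ q ∈ P, q * (y i * y i) ∈ T := fun q hq => ⟨q, hq, some (Sum.inl false), by simp [rep]⟩
    have mk3 : ∀ q ∈ P, ∀ j ∈ S, q * (y i * y i * y j) ∈ T :=
      fun q hq j hj => ⟨q, hq, some (Sum.inr ⟨j, hj⟩), rfl⟩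
    have hne : ∀ k ∈ S, i ≠ k := fun k hk h => hiS (h ▸ hk)
    have step : ∀ g ∈ T, ∀ k ∈ insert i S, g * y k ∈ T := by
      rintro _ ⟨q, hq, o, rfl⟩ k hk
      rcases Finset.mem_insert.mp hk with rfl | hkS
      · rcases o with _ | (_ | _) | ⟨j, hj⟩
        · simpa [rep] using mk1 q hq
        · simp only [rep, Option.elim_some, Sum.elim_inl, Bool.false_eq_true, if_false]
          rw [mul_assoc, h3, mul_one]; exact mk0 q hq
        · simp only [rep, Option.elim_some, Sum.elim_inl, if_true]
          rw [mul_assoc]; exact mk2 q hq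
        · simp only [rep, Option.elim_some, Sum.elim_inr]
          have e : y k * y k * y j * y k = (y j)⁻¹ * (y k * y k * y j) := by
            rw [mul_assoc _ (y j), hswap j k (hne j hj).symm, ← sq_eq_inv h3]
            have e2 : y k * y j * y k = (y j)⁻¹ := by
              calc y k * y j * y k = y k * y j * (y k * y j) * (y j)⁻¹ := by group
                _ = _ := by rw [h2 k j (hne j hj), one_mul]
            calc (y k)⁻¹ * ((y k)⁻¹ * (y j)⁻¹) = ((y k)⁻¹ * (y k)⁻¹) * (y j)⁻¹ := by group
              _ = y k * (y j)⁻¹ := by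
                  rw [sq_eq_inv h3 k, ← mul_assoc (y k * y k),
                    h3, one_mul]
              _ = (y k * y j * y k) * ((y k)⁻¹ * y j) := by
                  rw [sq_eq_inv h3 j]; group
              _ = _ := by rw [e2, sq_eq_inv h3 k]
          rw [mul_assoc q, e, ← mul_assoc]
          exact mk3 _ (mul_mem hq (inv_mem (hyP j hj))) j hj
      · rcases o with _ | (_ | _) | ⟨j, hj⟩
        · simpa [rep] using mk0 _ (mul_mem hq (hyP k hkS))
        · simp only [rep, Option.elim_some, Sum.elim_inl, Bool.false_eq_true, if_false]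
          rw [mul_assoc]; exact mk3 q hq k hkS
        · simp only [rep, Option.elim_some, Sum.elim_inl, if_true]
          rw [mul_assoc, hswap i k (hne k hkS), sq_eq_inv h3 i, ← mul_assoc]
          exact mk2 _ (mul_mem hq (inv_mem (hyP k hkS)))
        · simp only [rep, Option.elim_some, Sum.elim_inr]
          by_cases hjk : j = k
          · subst hjk
            have e : y i * y i * y j * y j = y j * y i := by
              rw [← sq_eq_inv h3 i, mul_assoc, ← sq_eq_inv h3 j, hswap j i (hne j hj).symm]
            rw [mul_assoc q, e, ← mul_assoc]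
            exact mk1 _ (mul_mem hq (hyP j hj))
          · have e : y i * y i * y j * y k = (y k * (y j)⁻¹) * (y i * y i * y j) := by
              have hik := hne k hkS
              have hij := hne j hj
              have a1 : (y i)⁻¹ * (y k)⁻¹ = y k * y i := (hswap k i hik.symm).symm
              have a2 : y i * y j = (y j)⁻¹ * (y i)⁻¹ := hswap i j hij
              rw [← sq_eq_inv h3 i]
              calc (y i)⁻¹ * y j * y k = (y i)⁻¹ * (y j * y k) := by group
                _ = ((y i)⁻¹ * (y k)⁻¹) * (y j)⁻¹ := by rw [hswap j k hjk]; group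
                _ = y k * (y i * (y j)⁻¹) := by rw [a1]; group
                _ = y k * ((y i * y j) * y j) := by rw [sq_eq_inv h3 j]; group
                _ = _ := by rw [a2]; group
            rw [mul_assoc q, e, ← mul_assoc]
            exact mk3 _ (mul_mem hq (mul_mem (hyP k hkS) (inv_mem (hyP j hj)))) j hj
    set H := Subgroup.closure (y '' ((insert i S : Finset ι) : Set ι))
    have hall : ∀ g ∈ H, g ∈ T := by
      intro g hg
      induction hg using Subgroup.closure_induction_right with
      | one => exact mk0 1 (one_mem P)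
      | mul_right x _ z hz ihx =>
        obtain ⟨k, hk, rfl⟩ := hz
        exact step x ihx k hk
      | mul_inv_cancel x _ z hz ihx =>
        obtain ⟨k, hk, rfl⟩ := hz
        rw [sq_eq_inv h3, ← mul_assoc]
        exact step _ (step x ihx k hk) k hk
    have hex : ∀ x : H, ∃ q : P, ∃ o, (x : G) = (q : G) * rep o := fun x => by
      obtain ⟨q, hq, o, hx⟩ := hall x x.2
      exact ⟨⟨q, hq⟩, o, hx⟩
    choose fq fo hf using hex
    have hj : Function.Injective fun x : H => (fq x, fo x) := fun x x' e => by
      simp only [Prod.mk.injEq] at e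
      exact Subtype.ext (by rw [hf x, hf x', e.1, e.2])
    haveI := hfin
    refine ⟨Finite.of_injective _ hj, ?_⟩
    have hle := Nat.card_le_card_of_injective _ hj
    rw [Nat.card_prod, Finite.card_option, Nat.card_sum, Nat.card_eq_fintype_card (α := Bool),
      Nat.card_eq_fintype_card (α := S), Fintype.card_bool, Fintype.card_coe] at hle
    rw [Finset.card_insert_of_notMem hiS,
      show S.card + 1 + 2 = S.card + 2 + 1 by ring, Nat.factorial_succ]
    calc 2 * Nat.card H ≤ 2 * (Nat.card P * (2 + S.card + 1)) := Nat.mul_le_mul_left _ hle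
      _ = (S.card + 2 + 1) * (2 * Nat.card P) := by ring
      _ ≤ _ := Nat.mul_le_mul_left _ hcard

end CfsgLib.AltPres
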