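import Cfsg.Agent.Lib.AltPres.Glue

/-!
# Five generators and thirty-two relations for every alternating group
-/

set_option autoImplicit false

namespace CfsgLib.AltPres

open Equiv

/-- Few points: Carmichael's presentation itself. -/
theorem small_presentation (m : ℕ) (hm : m ≤ 5) :
    ∃ (L : List (FreeGroup (Fin 5))) (π : FreeGroup (Fin 5) →* alternatingGroup (Bool ⊕ Fin m)),
      L.length ≤ 32 ∧ Function.Surjective π ∧ (∀ x ∈ L, π x = 1) ∧
      ∀ (G : Type) [Group G] (ψ : FreeGroup (Fin 5) →* G), Function.Surjective ψ →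
        (∀ x ∈ L, ψ x = 1) → Finite G ∧ Nat.card G ≤ Nat.card (alternatingGroup (Bool ⊕ Fin m)) := by
  classical
  let w : Fin m → FreeGroup (Fin 5) := fun i => .of (Fin.castLE hm i)
  let π : FreeGroup (Fin 5) →* alternatingGroup (Bool ⊕ Fin m) :=
    FreeGroup.lift fun k => if h : (k : ℕ) < m then cycA ⟨k, h⟩ else 1
  have hπw : ∀ i, π (w i) = cycA i := fun i => by simp [π, w]
  let D : List (Fin m × Fin m) :=
    (((Finset.univ : Finset (Fin m × Fin m)).filter fun x => x.1 ≠ x.2)).toList
  let E : List (Fin 5) := ((Finset.univ : Finset (Fin 5)).filter fun k : Fin 5 => m ≤ (k : ℕ)).toList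
  refine ⟨(List.finRange m).map (fun i => w i * w i * w i) ++
    D.map (fun x => w x.1 * w x.2 * (w x.1 * w x.2)) ++ E.map FreeGroup.of, π, ?_, ?_, fun x hx => ?_,
    fun G _ ψ hψ hL => ?_⟩
  · simp only [List.length_append, List.length_map, List.length_finRange, D, E, Finset.length_toList]
    interval_cases m <;> decide
  · rw [← MonoidHom.range_eq_top, eq_top_iff, ← closure_cycA, Subgroup.closure_le]
    rintro _ ⟨i, rfl⟩
    exact ⟨w i, hπw i⟩
  · simp only [List.mem_append, List.mem_map, D, E, Finset.mem_toList, Finset.mem_filter,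
      Finset.mem_univ, true_and, List.mem_finRange] at hx
    rcases hx with (⟨i, rfl⟩ | ⟨x, hx, rfl⟩) | ⟨k, hk, rfl⟩
    · rw [map_mul, map_mul, hπw]; exact cycA_cube i
    · rw [map_mul, map_mul, hπw, hπw]; exact cycA_pair _ _ hx
    · simp only [π, FreeGroup.lift_apply_of]; rw [dif_neg (not_lt.mpr hk)]
  · refine card_of_family (fun i => ψ (w i)) (fun i => ?_) (fun i j hij => ?_) ?_
    · rw [← map_mul, ← map_mul]
      refine hL _ ?_
      simp only [List.mem_append, List.mem_map]
      exact Or.inl (Or.inl ⟨i, List.mem_finRange i, rfl⟩)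
    · rw [← map_mul, ← map_mul]
      refine hL _ ?_
      simp only [List.mem_append, List.mem_map]
      exact Or.inl (Or.inr ⟨(i, j), by simp [D, hij], rfl⟩)
    · rw [eq_top_iff]
      rintro g -
      obtain ⟨x, rfl⟩ := hψ g
      set N := Subgroup.closure (Set.range fun i => ψ (w i))
      induction x using FreeGroup.induction_on with
      | C1 => simpa using one_mem N
      | of k =>
        by_cases hk : (k : ℕ) < m
        · exact Subgroup.subset_closure ⟨⟨k, hk⟩, by simp [w]⟩
        · rw [hL (.of k) (by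
            simp only [List.mem_append, List.mem_map]
            exact Or.inr ⟨k, by simp [E, not_lt.mp hk], rfl⟩)]
          exact one_mem N
      | inv_of i ih => rw [map_inv]; exact inv_mem ih
      | mul a b ha hb => rw [map_mul]; exact mul_mem ha hb

/-- Moving a presentation along an isomorphism. -/
theorem transport {T T' : Type*} [Group T] [Group T'] [Finite T] (e : T ≃* T') (k r : ℕ)
    (h : ∃ (L : List (FreeGroup (Fin k))) (π : FreeGroup (Fin k) →* T),
      L.length ≤ r ∧ Function.Surjective π ∧ (∀ x ∈ L, π x = 1) ∧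
      ∀ (G : Type) [Group G] (ψ : FreeGroup (Fin k) →* G), Function.Surjective ψ →
        (∀ x ∈ L, ψ x = 1) → Finite G ∧ Nat.card G ≤ Nat.card T) :
    ∃ (L : List (FreeGroup (Fin k))) (π : FreeGroup (Fin k) →* T'),
      L.length ≤ r ∧ Function.Surjective π ∧ (∀ x ∈ L, π x = 1) ∧
      ∀ (G : Type) [Group G] (ψ : FreeGroup (Fin k) →* G), Function.Surjective ψ →
        (∀ x ∈ L, ψ x = 1) → Finite G ∧ Nat.card G ≤ Nat.card T' := by
  obtain ⟨L, π, hL, hs, hr, hc⟩ := h
  refine ⟨L, e.toMonoidHom.comp π, hL, e.surjective.comp hs, fun x hx => by simp [hr x hx], ?_⟩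
  intro G _ ψ hψ hx
  rw [← Nat.card_congr e.toEquiv]
  exact hc G ψ hψ hx

/-- `A_n` has a presentation on five generators with at most thirty-two relations. -/
theorem alt_presentation (n : ℕ) (hn : 4 ≤ n) :
    ∃ (L : List (FreeGroup (Fin 5))) (π : FreeGroup (Fin 5) →* alternatingGroup (Fin n)),
      L.length ≤ 32 ∧ Function.Surjective π ∧ (∀ x ∈ L, π x = 1) ∧
      ∀ (G : Type) [Group G] (ψ : FreeGroup (Fin 5) →* G), Function.Surjective ψ →
        (∀ x ∈ L, ψ x = 1) → Finite G ∧ Nat.card G ≤ Nat.card (alternatingGroup (Fin n)) := by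
  classical
  rcases Nat.lt_or_ge n 8 with h | h
  · refine transport (Equiv.altCongrHom (Fintype.equivOfCardEq ?_)) 5 32
      (small_presentation (n - 2) (by omega))
    rw [Fintype.card_sum, Fintype.card_bool, Fintype.card_fin, Fintype.card_fin]
    omega
  · obtain ⟨p, hp, hlo, hhi⟩ := Nat.exists_prime_lt_and_le_two_mul ((n - 2) / 2) (by omega)
    haveI : Fact p.Prime := ⟨hp⟩
    have h2 : p ≠ 2 := by omega
    have hne : p + 3 ≤ n := by
      rcases Nat.lt_or_ge (p + 2) n with h' | h'
      · omega
      · have : p % 2 = 1 := Nat.odd_iff.mp (hp.odd_of_ne_two h2)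
        omega
    refine transport (Equiv.altCongrHom (Fintype.equivOfCardEq ?_)) 5 32
      (glue_presentation p h2 (n - (p + 3)) (by omega))
    rw [Fintype.card_sum, Fintype.card_sum, Fintype.card_bool, Fintype.card_option, ZMod.card,
      Fintype.card_fin, Fintype.card_fin]
    omega

end CfsgLib.AltPres
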