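import Cfsg.Agent.Lib.AltPres.Line

/-!
# A bounded presentation of every alternating group
-/

set_option autoImplicit false

namespace CfsgLib.AltPres

open Equiv

/-- Relations with a matching order bound define the target: homomorphisms factor. -/
theorem factor_of_card {k : ℕ} {T : Type*} [Group T] [Finite T] (L : List (FreeGroup (Fin k)))
    (π : FreeGroup (Fin k) →* T) (hπ : Function.Surjective π) (hrel : ∀ r ∈ L, π r = 1)
    (hcard : ∀ (G : Type) [Group G] (ψ : FreeGroup (Fin k) →* G), Function.Surjective ψ →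
      (∀ r ∈ L, ψ r = 1) → Finite G ∧ Nat.card G ≤ Nat.card T)
    (G : Type*) [Group G] (ψ : FreeGroup (Fin k) →* G) (hψ : ∀ r ∈ L, ψ r = 1) :
    ∃ θ : T →* G, ∀ x, θ (π x) = ψ x := by
  classical
  set R : Set (FreeGroup (Fin k)) := {r | r ∈ L}
  obtain ⟨hfin, hle⟩ := hcard (PresentedGroup R) (PresentedGroup.mk R)
    (PresentedGroup.mk_surjective R) fun r hr => PresentedGroup.one_of_mem hr
  have hπl : FreeGroup.lift (fun i => π (FreeGroup.of i)) = π := FreeGroup.ext_hom _ _ (fun i => by simp)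
  have hψl : FreeGroup.lift (fun i => ψ (FreeGroup.of i)) = ψ := FreeGroup.ext_hom _ _ (fun i => by simp)
  have h1 : ∀ r ∈ R, FreeGroup.lift (fun i => π (FreeGroup.of i)) r = 1 := by
    rw [hπl]; exact hrel
  have h2 : ∀ r ∈ R, FreeGroup.lift (fun i => ψ (FreeGroup.of i)) r = 1 := by
    rw [hψl]; exact hψ
  let f : PresentedGroup R →* T := PresentedGroup.toGroup h1
  have hf : ∀ x, f (PresentedGroup.mk R x) = π x := fun x => by
    have : f.comp (PresentedGroup.mk R) = π := FreeGroup.ext_hom _ _ fun i => by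
      show f (PresentedGroup.of i) = _
      exact PresentedGroup.toGroup.of h1
    exact DFunLike.congr_fun this x
  have hfs : Function.Surjective f := fun t => by
    obtain ⟨x, rfl⟩ := hπ t
    exact ⟨_, hf x⟩
  have hbij : Function.Bijective f := (Nat.bijective_iff_surjective_and_card _).mpr
    ⟨hfs, le_antisymm hle (Nat.card_le_card_of_surjective f hfs)⟩
  let e := MulEquiv.ofBijective f hbij
  refine ⟨(PresentedGroup.toGroup h2).comp e.symm.toMonoidHom, fun x => ?_⟩
  have : e.symm (π x) = PresentedGroup.mk R x := by rw [MulEquiv.symm_apply_eq]; exact (hf x).symm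
  have h3 : (PresentedGroup.toGroup h2).comp (PresentedGroup.mk R) = ψ := FreeGroup.ext_hom _ _ fun i => by
    show PresentedGroup.toGroup h2 (PresentedGroup.of i) = _
    exact PresentedGroup.toGroup.of h2
  simp only [MonoidHom.comp_apply, MulEquiv.coe_toMonoidHom, this]
  exact DFunLike.congr_fun h3 x

/-- An even permutation of `Fin r` with all orbits meeting at most two points. -/
theorem exists_even_two_orbits (r : ℕ) : ∃ (σ : Perm (Fin r)) (S : List (Fin r)),
    Perm.sign σ = 1 ∧ S.length ≤ 2 ∧ ∀ j, ∃ s ∈ S, ∃ l : ℕ, (σ ^ l) s = j := by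
  rcases Nat.eq_zero_or_pos r with rfl | hr
  · exact ⟨1, [], map_one _, by simp, fun j => j.elim0⟩
  -- `M` is the largest odd number at most `r`
  obtain ⟨M, rest, hM, hrest, rfl⟩ : ∃ M rest : ℕ, Odd M ∧ rest ≤ 1 ∧ r = M + rest := by
    rcases Nat.even_or_odd r with ⟨m, hm⟩ | h
    · exact ⟨r - 1, 1, ⟨m - 1, by omega⟩, le_refl 1, by omega⟩
    · exact ⟨r, 0, h, by omega, rfl⟩
  obtain ⟨m, rfl⟩ := hM
  let σ : Perm (Fin (2 * m + 1 + rest)) :=
    finSumFinEquiv.permCongr (Perm.sumCongr (finRotate (2 * m + 1)) (1 : Perm (Fin rest)))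
  have hpow : ∀ l : ℕ, σ ^ l =
      finSumFinEquiv.permCongr (Perm.sumCongr (finRotate (2 * m + 1) ^ l) (1 : Perm (Fin rest))) := by
    intro l
    induction l with
    | zero => ext1 x; simp
    | succ n ih =>
      rw [pow_succ, ih, pow_succ (finRotate (2 * m + 1))]
      ext1 x
      obtain ⟨y, rfl⟩ := finSumFinEquiv.surjective x
      rcases y with y | y <;> simp [σ, Equiv.permCongr_apply]
  have hrot : ∀ (l : ℕ) (hl : l < 2 * m + 1), (finRotate (2 * m + 1) ^ l) 0 = ⟨l, hl⟩ := by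
    intro l
    induction l with
    | zero => intro hl; simp
    | succ n ih =>
      intro hl
      rw [pow_succ', Perm.mul_apply, ih (by omega), finRotate_apply]
      apply Fin.ext
      rw [Fin.val_add, Fin.val_one', Nat.mod_eq_of_lt (show 1 < 2 * m + 1 by omega), Nat.mod_eq_of_lt hl]
  refine ⟨σ, finSumFinEquiv (Sum.inl 0) ::
      (List.finRange rest).map (fun i => finSumFinEquiv (Sum.inr i)), ?_, by simp; omega, fun j => ?_⟩
  · rw [Perm.sign_permCongr, Perm.sign_sumCongr, sign_finRotate, map_one, mul_one,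
      Nat.add_sub_cancel, pow_mul, neg_one_sq, one_pow]
  · obtain ⟨y, rfl⟩ := finSumFinEquiv.surjective j
    rcases y with y | y
    · refine ⟨_, List.mem_cons_self .., y.val, ?_⟩
      rw [hpow]
      simp [Equiv.permCongr_apply, hrot y.val y.isLt]
    · exact ⟨_, List.mem_cons_of_mem _ (List.mem_map.mpr ⟨y, List.mem_finRange y, rfl⟩), 0, by simp⟩

/-- The twist by inversion. -/
def tw {G : Type*} [Group G] (odd : Bool) (x : G) : G := if odd then x⁻¹ else x

theorem map_tw {G H : Type*} [Group G] [Group H] (f : G →* H) (b : Bool) (x : G) :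
    f (tw b x) = tw b (f x) := by cases b <;> simp [tw]

theorem tw_conj {G : Type*} [Group G] (b : Bool) (g x : G) : g * tw b x * g⁻¹ = tw b (g * x * g⁻¹) := by
  cases b
  · rfl
  · simp only [tw, if_true]; group

theorem tw_cube {G : Type*} [Group G] (b : Bool) {x : G} (h : x * x * x = 1) :
    tw b x * tw b x * tw b x = 1 := by
  cases b
  · exact h
  · simp only [tw, if_true]
    calc x⁻¹ * x⁻¹ * x⁻¹ = (x * x * x)⁻¹ := by group
      _ = 1 := by rw [h, inv_one]

theorem tw_pair {G : Type*} [Group G] (b : Bool) {x z : G} (h : x * z * (x * z) = 1) :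
    tw b x * tw b z * (tw b x * tw b z) = 1 := by
  cases b
  · exact h
  · simp only [tw, if_true]
    calc x⁻¹ * z⁻¹ * (x⁻¹ * z⁻¹) = x⁻¹ * (x * z * (x * z))⁻¹ * x := by group
      _ = 1 := by rw [h]; group

theorem conj_pow_fam {G κ : Type*} [Group G] (g : G) (f : κ → G) (σ : Perm κ)
    (h : ∀ i, g * f i * g⁻¹ = f (σ i)) (l : ℕ) (i : κ) : g ^ l * f i * (g ^ l)⁻¹ = f ((σ ^ l) i) := by
  induction l with
  | zero => simp
  | succ n ih =>
    rw [pow_succ' σ, Perm.mul_apply, ← h, ← ih, pow_succ']; group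

theorem pair_conj {G : Type*} [Group G] (g : G) {a b : G} (e : a * b * (a * b) = 1) :
    g * a * g⁻¹ * (g * b * g⁻¹) * (g * a * g⁻¹ * (g * b * g⁻¹)) = 1 := by
  calc _ = g * (a * b * (a * b)) * g⁻¹ := by group
    _ = 1 := by rw [e]; group

theorem pair_symm {G : Type*} [Group G] {a b : G} (e : a * b * (a * b) = 1) :
    b * a * (b * a) = 1 := by
  calc b * a * (b * a) = a⁻¹ * (a * b * (a * b)) * a := by group
    _ = 1 := by rw [e]; group

theorem mem_of_mem_closure_range {G H κ : Type*} [Group G] [Group H] (f : G →* H) (fw : κ → G)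
    (t : H) (h : t ∈ Subgroup.closure (Set.range fun i => f (fw i))) :
    ∃ x ∈ Subgroup.closure (Set.range fw), f x = t := by
  have : t ∈ (Subgroup.closure (Set.range fw)).map f := by
    rw [MonoidHom.map_closure, ← Set.range_comp]; exact h
  exact Subgroup.mem_map.mp this

/-- Gluing two copies along a common part. -/
theorem glue_presentation (p : ℕ) [Fact p.Prime] (hp : p ≠ 2) (r : ℕ) (hr : r + 2 ≤ p + 1) :
    ∃ (L : List (FreeGroup (Fin 5)))
      (π : FreeGroup (Fin 5) →* alternatingGroup (Bool ⊕ (Option (ZMod p) ⊕ Fin r))),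
      L.length ≤ 32 ∧ Function.Surjective π ∧ (∀ x ∈ L, π x = 1) ∧
      ∀ (G : Type) [Group G] (ψ : FreeGroup (Fin 5) →* G), Function.Surjective ψ →
        (∀ x ∈ L, ψ x = 1) →
        Finite G ∧ Nat.card G ≤ Nat.card (alternatingGroup (Bool ⊕ (Option (ZMod p) ⊕ Fin r))) := by
  classical
  obtain ⟨L₁, π₁, hL₁, hπ₁, hrel₁, hG₁⟩ := line_presentation p hp
  choose pre hpre using hπ₁
  set J : FreeGroup (Fin 4) →* FreeGroup (Fin 5) := FreeGroup.map Fin.castSucc
  set T : FreeGroup (Fin 5) := .of 4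
  obtain ⟨e⟩ : Nonempty (Fin r ↪ Option (ZMod p)) := Function.Embedding.nonempty_of_card_le (by
    rw [Fintype.card_fin, Fintype.card_option, ZMod.card]; omega)
  -- the common part
  let PI : Option (ZMod p) → Prop := fun i => i ∉ Set.range e
  let eI : Fin (Fintype.card (Subtype PI)) ≃ Subtype PI := (Fintype.equivFin _).symm
  obtain ⟨α, Su, hα, hSu, hαorb⟩ := exists_even_two_orbits r
  obtain ⟨σ, Si, hσ, hSi, hσorb⟩ := exists_even_two_orbits (Fintype.card (Subtype PI))
  let αL : Perm (Option (ZMod p)) := α.viaFintypeEmbedding e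
  let σL : Perm (Option (ZMod p)) := Perm.ofSubtype (eI.permCongr σ)
  have hαe : ∀ j, αL (e j) = e (α j) := fun j => Perm.viaFintypeEmbedding_apply_image _ _ _
  have hαI : ∀ i, PI i → αL i = i := fun i hi => Perm.viaFintypeEmbedding_apply_notMem_range _ _ hi
  have hσe : ∀ j, σL (e j) = e j := fun j =>
    Perm.ofSubtype_apply_of_not_mem _ (fun h => h ⟨j, rfl⟩)
  have hσI : ∀ s, σL (eI s : Option (ZMod p)) = (eI (σ s) : Option (ZMod p)) := fun s => by
    rw [Perm.ofSubtype_apply_coe, Equiv.permCongr_apply, Equiv.symm_apply_apply]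
  have sα : Perm.sign αL = 1 := by rw [Perm.viaFintypeEmbedding_sign, hα]
  have sσ : Perm.sign σL = 1 := by rw [Perm.sign_ofSubtype, Perm.sign_permCongr, hσ]
  let ext₁ : Perm (Option (ZMod p)) →* Perm (Bool ⊕ Option (ZMod p)) :=
    (Perm.sumCongrHom Bool (Option (ZMod p))).comp (MonoidHom.inr (Perm Bool) (Perm (Option (ZMod p))))
  have hsext : ∀ g, Perm.sign (ext₁ g) = Perm.sign g := fun g => by simp [ext₁, Perm.sumCongrHom_apply]
  let aα : alternatingGroup (Bool ⊕ Option (ZMod p)) :=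
    ⟨ext₁ αL, by rw [Perm.mem_alternatingGroup, hsext, sα]⟩
  let aσ : alternatingGroup (Bool ⊕ Option (ZMod p)) :=
    ⟨ext₁ σL, by rw [Perm.mem_alternatingGroup, hsext, sσ]⟩
  have hline : ∀ (g : Perm (Option (ZMod p))) (hg : ext₁ g ∈ alternatingGroup (Bool ⊕ Option (ZMod p)))
      (i : Option (ZMod p)), (⟨ext₁ g, hg⟩ : alternatingGroup (Bool ⊕ Option (ZMod p))) * cycA i *
        (⟨ext₁ g, hg⟩ : alternatingGroup (Bool ⊕ Option (ZMod p)))⁻¹ = cycA (g i) :=
    fun g hg i => Subtype.ext (cyc3_conj _ (fun b => by simp [ext₁, Perm.sumCongrHom_apply]) i (g i)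
      (by simp [ext₁, Perm.sumCongrHom_apply]))
  -- the model
  let κ₀ : Perm (Bool ⊕ Option (ZMod p)) →* Perm (Bool ⊕ (Option (ZMod p) ⊕ Fin r)) :=
    (Equiv.sumAssoc Bool (Option (ZMod p)) (Fin r)).permCongrHom.toMonoidHom.comp
      ((Perm.sumCongrHom _ (Fin r)).comp (MonoidHom.inl _ (Perm (Fin r))))
  have hκsign : ∀ g, Perm.sign (κ₀ g) = Perm.sign g := fun g => by
    simp [κ₀, Equiv.permCongrHom, Perm.sign_permCongr, Perm.sumCongrHom_apply]
  let κ : alternatingGroup (Bool ⊕ Option (ZMod p)) →* alternatingGroup (Bool ⊕ (Option (ZMod p) ⊕ Fin r)) :=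
    (κ₀.comp (alternatingGroup _).subtype).codRestrict _ fun g => by
      rw [Perm.mem_alternatingGroup, MonoidHom.comp_apply, hκsign]; exact g.2
  have κb : ∀ g b, κ₀ g (Sum.inl b) = Equiv.sumAssoc _ _ _ (Sum.inl (g (Sum.inl b))) := fun g b => by
    simp [κ₀, Equiv.permCongrHom, Equiv.permCongr_apply, Perm.sumCongrHom_apply, Equiv.sumAssoc]
  have κl : ∀ g i, κ₀ g (Sum.inr (Sum.inl i)) = Equiv.sumAssoc _ _ _ (Sum.inl (g (Sum.inr i))) :=
    fun g i => by simp [κ₀, Equiv.permCongrHom, Equiv.permCongr_apply, Perm.sumCongrHom_apply, Equiv.sumAssoc]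
  have κr : ∀ g j, κ₀ g (Sum.inr (Sum.inr j)) = Sum.inr (Sum.inr j) := fun g j => by
    simp [κ₀, Equiv.permCongrHom, Equiv.permCongr_apply, Perm.sumCongrHom_apply, Equiv.sumAssoc]
  have hκcyc : ∀ i, κ (cycA i) = cycA (Sum.inl i) := by
    intro i
    apply Subtype.ext
    show κ₀ (cyc3 i) = cyc3 (Sum.inl i)
    ext1 x
    rcases x with (_ | _) | (x | x)
    · rw [κb]; simp [cyc3, swap_apply_def]
    · rw [κb]; simp [cyc3, swap_apply_def]
    · rw [κl]; by_cases h : x = i <;> simp [cyc3, swap_apply_def, h]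
    · rw [κr]; simp [cyc3, swap_apply_def]
  let odd : Bool := decide (Odd r)
  let εm : Fin r × Bool ↪ (Bool ⊕ (Option (ZMod p) ⊕ Fin r)) := ⟨fun x => if x.2 then Sum.inr (Sum.inr x.1) else Sum.inr (Sum.inl (e x.1)), by
    rintro ⟨a, _ | _⟩ ⟨b, _ | _⟩ h <;> simp at h ⊢ <;> exact h⟩
  let t₀ : Perm (Bool ⊕ (Option (ZMod p) ⊕ Fin r)) := Perm.viaFintypeEmbedding (Equiv.prodCongrRight fun _ : Fin r => swap false true) εm *
    (if odd then swap (Sum.inl false) (Sum.inl true) else 1)
  have hεf : ∀ j, εm (j, false) = Sum.inr (Sum.inl (e j)) := fun j => rfl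
  have hεt : ∀ j, εm (j, true) = Sum.inr (Sum.inr j) := fun j => rfl
  have notin_bool : ∀ b, (Sum.inl b : (Bool ⊕ (Option (ZMod p) ⊕ Fin r))) ∉ Set.range εm := by
    rintro b ⟨⟨a, _ | _⟩, h⟩ <;> simp [hεf, hεt] at h
  have tl : ∀ b, t₀ (Sum.inl b) = Sum.inl (if odd then !b else b) := by
    intro b
    simp only [t₀, Perm.mul_apply]
    cases odd
    · simp [Perm.viaFintypeEmbedding_apply_notMem_range _ _ (notin_bool b)]
    · cases b <;> simp [Perm.viaFintypeEmbedding_apply_notMem_range _ _ (notin_bool _)]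
  have tfix : ∀ x : Option (ZMod p) ⊕ Fin r,
      t₀ (Sum.inr x) = Perm.viaFintypeEmbedding (Equiv.prodCongrRight fun _ : Fin r => swap false true) εm
        (Sum.inr x) := by
    intro x; simp only [t₀, Perm.mul_apply]; cases odd <;> simp [swap_apply_def]
  have te : ∀ j, t₀ (Sum.inr (Sum.inl (e j))) = Sum.inr (Sum.inr j) := fun j => by
    rw [tfix, show (Sum.inr (Sum.inl (e j)) : (Bool ⊕ (Option (ZMod p) ⊕ Fin r))) = εm (j, false) by simp [hεf, hεt],
      Perm.viaFintypeEmbedding_apply_image]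
    simp [hεf, hεt]
  have tI : ∀ i, PI i → t₀ (Sum.inr (Sum.inl i)) = Sum.inr (Sum.inl i) := fun i hi => by
    rw [tfix, Perm.viaFintypeEmbedding_apply_notMem_range]
    rintro ⟨⟨a, _ | _⟩, h⟩ <;> simp [hεf, hεt] at h
    exact hi ⟨a, h⟩
  have st : Perm.sign t₀ = 1 := by
    simp only [t₀, map_mul, Perm.viaFintypeEmbedding_sign, Perm.sign_prodCongrRight]
    rw [Finset.prod_const, Finset.card_univ, Fintype.card_fin, Perm.sign_swap (by simp)]
    by_cases h : Odd r
    · simp [odd, h, h.neg_one_pow, Perm.sign_swap]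
    · simp [odd, h, (Nat.not_odd_iff_even.mp h).neg_one_pow]
  let tA : alternatingGroup (Bool ⊕ (Option (ZMod p) ⊕ Fin r)) := ⟨t₀, st⟩
  let π : FreeGroup (Fin 5) →* alternatingGroup (Bool ⊕ (Option (ZMod p) ⊕ Fin r)) :=
    FreeGroup.lift (Fin.snoc (α := fun _ => alternatingGroup (Bool ⊕ (Option (ZMod p) ⊕ Fin r))) (fun i => κ (π₁ (.of i))) tA)
  have hπJ : ∀ x, π (J x) = κ (π₁ x) := fun x => by
    have : π.comp J = κ.comp π₁ := FreeGroup.ext_hom _ _ fun i => by simp [π, J]
    exact DFunLike.congr_fun this x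
  have hπT : π T = tA := by
    simp only [π, T, FreeGroup.lift_apply_of]
    exact Fin.snoc_last (α := fun _ => alternatingGroup (Bool ⊕ (Option (ZMod p) ⊕ Fin r))) _ _
  have htcyc : ∀ i j, t₀ (Sum.inr i) = Sum.inr j → tA * cycA i * tA⁻¹ = tw odd (cycA j) := by
    intro i j hij
    have h1 : ∀ b, odd = b → tA * cycA i * tA⁻¹ = tw b (cycA j) := by
      rintro (_ | _) hb
      · exact Subtype.ext (cyc3_conj t₀ (fun b => by rw [tl, hb]; rfl) i j hij)
      · exact Subtype.ext (cyc3_conj_swap t₀ (fun b => by rw [tl, hb]; rfl) i j hij)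
    exact h1 odd rfl
  -- words
  let wy : Option (ZMod p) → FreeGroup (Fin 5) := fun i => J (pre (cycA i))
  let wa := J (pre aα)
  let ws := J (pre aσ)
  obtain ⟨wb, hwbdef⟩ : ∃ x, x = T * wa * T⁻¹ := ⟨_, rfl⟩
  let wz : Fin r → FreeGroup (Fin 5) := fun j => tw odd (T * wy (e j) * T⁻¹)
  let fw : Option (ZMod p) ⊕ Fin r → FreeGroup (Fin 5) := Sum.elim wy wz
  have hπy : ∀ i, π (wy i) = cycA (Sum.inl i) := fun i => by
    simp only [wy, hπJ, hpre, hκcyc]
  have hπz : ∀ j, π (wz j) = cycA (Sum.inr j) := fun j => by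
    simp only [wz, map_tw, map_mul, map_inv, hπT, hπy]
    rw [htcyc _ (Sum.inr j) (te j)]
    cases odd <;> simp [tw]
  have hπfw : ∀ i, π (fw i) = cycA i := by rintro (i | j) <;> simp [fw, hπy, hπz]
  have hsurj : Function.Surjective π := by
    rw [← MonoidHom.range_eq_top, eq_top_iff, ← closure_cycA, Subgroup.closure_le]
    rintro _ ⟨i, rfl⟩
    exact ⟨fw i, hπfw i⟩
  obtain ⟨tw₀, htw₀, hπtw₀⟩ := mem_of_mem_closure_range π fw tA (by
    simp only [hπfw]; rw [closure_cycA]; trivial)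
  refine ⟨L₁.map J ++ Si.map (fun s => T * wy (eI s) * T⁻¹ * (tw odd (wy (eI s)))⁻¹) ++
      [T * ws * T⁻¹ * ws⁻¹, wa * wb * (wb * wa)⁻¹, T * tw₀⁻¹] ++
      Su.map (fun s => wa * wz s * (wz s * wa)⁻¹) ++
      Su.map (fun s => wb * wy (e s) * (wy (e s) * wb)⁻¹) ++
      (Su ×ˢ Su).map (fun x => wy (e x.1) * wz x.2 * (wy (e x.1) * wz x.2)),
    π, ?_, hsurj, fun x hx => ?_, fun G _ ψ hψ hL => ?_⟩
  · simp only [List.length_append, List.length_map, List.length_cons, List.length_nil,
      List.length_product]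
    have h4 : Su.length * Su.length ≤ 2 * 2 := Nat.mul_le_mul hSu hSu
    omega
  · have hκ₁ : ∀ g i, κ₀ (ext₁ g) (Sum.inr (Sum.inl i)) = Sum.inr (Sum.inl (g i)) := fun g i => by
      rw [κl]; simp [ext₁, Perm.sumCongrHom_apply]
    have hκ₁b : ∀ g b, κ₀ (ext₁ g) (Sum.inl b) = Sum.inl b := fun g b => by
      rw [κb]; simp [ext₁, Perm.sumCongrHom_apply]
    have hπa : ∀ x, π (J (pre x)) = κ x := fun x => by rw [hπJ, hpre]
    simp only [List.mem_append, List.mem_map, List.mem_cons, List.not_mem_nil, or_false,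
      List.mem_product] at hx
    have tsq : ∀ j, t₀⁻¹ (Sum.inr (Sum.inr j)) = Sum.inr (Sum.inl (e j)) := fun j => by
      rw [Perm.inv_eq_iff_eq]; exact (te j).symm
    have tIinv : ∀ i, PI i → t₀⁻¹ (Sum.inr (Sum.inl i)) = Sum.inr (Sum.inl i) := fun i hi => by
      rw [Perm.inv_eq_iff_eq]; exact (tI i hi).symm
    have tinr : ∀ j, t₀ (Sum.inr (Sum.inr j)) = Sum.inr (Sum.inl (e j)) := fun j => by
      rw [tfix, show (Sum.inr (Sum.inr j) : (Bool ⊕ (Option (ZMod p) ⊕ Fin r))) = εm (j, true) by simp [hεf, hεt],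
        Perm.viaFintypeEmbedding_apply_image]
      simp [hεf, hεt]
    have tinv : ∀ x, t₀⁻¹ x = t₀ x := by
      intro x
      rw [Perm.inv_eq_iff_eq]
      rcases x with b | (i | j)
      · rw [tl, tl]; cases odd <;> simp
      · by_cases hi : PI i
        · rw [tI i hi, tI i hi]
        · obtain ⟨j, rfl⟩ := not_not.mp hi
          rw [te, tinr]
      · rw [tinr, te]
    -- the action of the lifted copy of `α`
    have hwa : π wa = κ aα := hπa aα
    have hwb : ((π wb : alternatingGroup (Bool ⊕ (Option (ZMod p) ⊕ Fin r))) : Perm (Bool ⊕ (Option (ZMod p) ⊕ Fin r))) = t₀ * κ₀ (ext₁ αL) * t₀⁻¹ := by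
      simp only [hwbdef, map_mul, map_inv, hπT, hwa]; rfl
    have bl : ∀ i, (t₀ * κ₀ (ext₁ αL) * t₀⁻¹) (Sum.inr (Sum.inl i)) = Sum.inr (Sum.inl i) := by
      intro i
      simp only [Perm.mul_apply, tinv]
      by_cases hi : PI i
      · rw [tI i hi, hκ₁, hαI i hi, tI i hi]
      · obtain ⟨j, rfl⟩ := not_not.mp hi
        rw [te, κr, tinr]
    have bb : ∀ b, (t₀ * κ₀ (ext₁ αL) * t₀⁻¹) (Sum.inl b) = Sum.inl b := fun b => by
      simp only [Perm.mul_apply, tinv, tl, hκ₁b]
      cases odd <;> simp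
    rcases hx with ((((⟨x, hx, rfl⟩ | ⟨s, -, rfl⟩) | rfl | rfl | rfl) | ⟨s, -, rfl⟩) | ⟨s, -, rfl⟩) |
      ⟨⟨s, s'⟩, -, rfl⟩
    · rw [hπJ, hrel₁ x hx, map_one]
    · rw [map_mul, map_inv, mul_inv_eq_one, map_mul, map_mul, map_inv, hπT, map_tw, hπy]
      exact htcyc _ _ (tI _ (eI s).2)
    · rw [map_mul, map_inv, mul_inv_eq_one, map_mul, map_mul, map_inv, hπT,
        mul_inv_eq_iff_eq_mul]
      apply Subtype.ext
      show t₀ * ((π ws : alternatingGroup (Bool ⊕ (Option (ZMod p) ⊕ Fin r))) : Perm (Bool ⊕ (Option (ZMod p) ⊕ Fin r))) = ((π ws : alternatingGroup (Bool ⊕ (Option (ZMod p) ⊕ Fin r))) : Perm (Bool ⊕ (Option (ZMod p) ⊕ Fin r))) * t₀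
      rw [show ((π ws : alternatingGroup (Bool ⊕ (Option (ZMod p) ⊕ Fin r))) : Perm (Bool ⊕ (Option (ZMod p) ⊕ Fin r))) = κ₀ (ext₁ σL) by rw [hπa]; rfl]
      ext1 x
      rcases x with b | (i | j)
      · simp [Perm.mul_apply, hκ₁b, tl]
      · simp only [Perm.mul_apply, hκ₁]
        by_cases hi : PI i
        · obtain ⟨s, hs⟩ := eI.surjective ⟨i, hi⟩
          have e1 : σL i = (eI (σ s) : Option (ZMod p)) := by rw [← hσI, hs]
          rw [e1, tI _ (eI (σ s)).2, tI i hi, hκ₁, e1]
        · obtain ⟨j, rfl⟩ := not_not.mp hi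
          rw [hσe, te, κr]
      · simp only [Perm.mul_apply, κr, tinr, hκ₁, hσe]
    · rw [map_mul, map_inv, mul_inv_eq_one, map_mul, map_mul]
      apply Subtype.ext
      rw [Subgroup.coe_mul, Subgroup.coe_mul, hwb, hwa]
      show κ₀ (ext₁ αL) * _ = _ * κ₀ (ext₁ αL)
      ext1 x
      show κ₀ (ext₁ αL) ((t₀ * κ₀ (ext₁ αL) * t₀⁻¹) x) = (t₀ * κ₀ (ext₁ αL) * t₀⁻¹) (κ₀ (ext₁ αL) x)
      rcases x with b | (i | j)
      · rw [bb, hκ₁b, bb]
      · rw [bl, hκ₁, bl]
      · rw [κr]
        simp only [Perm.mul_apply, tinv, tinr, hκ₁, hαe, te, κr]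
    · rw [map_mul, map_inv, hπT, hπtw₀, mul_inv_cancel]
    · rw [map_mul, map_inv, mul_inv_eq_one, map_mul, map_mul, hwa, hπz, ← mul_inv_eq_iff_eq_mul]
      exact Subtype.ext (cyc3_conj _ (hκ₁b αL) (Sum.inr s) (Sum.inr s) (κr _ _))
    · rw [map_mul, map_inv, mul_inv_eq_one, map_mul, map_mul, hπy, ← mul_inv_eq_iff_eq_mul]
      apply Subtype.ext
      rw [Subgroup.coe_mul, Subgroup.coe_mul, InvMemClass.coe_inv, hwb]
      exact cyc3_conj _ bb _ _ (bl _)
    · rw [map_mul, map_mul, hπy, hπz]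
      exact cycA_pair _ _ (by simp)
  · obtain ⟨θ, hθ⟩ := hG₁ G (ψ.comp J) (fun x hx => hL (J x) (by simp only [List.mem_append, List.mem_map]; exact Or.inl (Or.inl (Or.inl (Or.inl (Or.inl ⟨x, hx, rfl⟩))))))
    have memI : ∀ s ∈ Si, ψ T * ψ (wy (eI s)) * (ψ T)⁻¹ = tw odd (ψ (wy (eI s))) := fun s hs => by
      have := hL (T * wy (eI s) * T⁻¹ * (tw odd (wy (eI s)))⁻¹) (by
        simp only [List.mem_append, List.mem_map]
        exact Or.inl (Or.inl (Or.inl (Or.inl (Or.inr ⟨s, hs, rfl⟩)))))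
      rwa [map_mul, map_inv, mul_inv_eq_one, map_mul, map_mul, map_inv, map_tw] at this
    have memS := hL (T * ws * T⁻¹ * ws⁻¹) (by simp)
    have memAB := hL (wa * wb * (wb * wa)⁻¹) (by simp)
    have memT := hL (T * tw₀⁻¹) (by simp)
    simp only [map_mul, map_inv, mul_inv_eq_one] at memS memAB memT
    have hθy : ∀ i, ψ (wy i) = θ (cycA i) := fun i => by
      rw [show wy i = J (pre (cycA i)) from rfl, ← MonoidHom.comp_apply, ← hθ, hpre]
    have hθw : ∀ x, ψ (J (pre x)) = θ x := fun x => by rw [← MonoidHom.comp_apply, ← hθ, hpre]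
    set X : Option (ZMod p) → G := fun i => ψ (wy i) with hX
    set Z : Fin r → G := fun j => ψ (wz j) with hZ
    set A := ψ wa with hA
    set A' := ψ wb with hA'
    set t := ψ T with ht
    set S := ψ ws with hS
    have hA'eq : A' = t * A * t⁻¹ := by simp [hA', hwbdef, hA, ht]
    have cube : ∀ i, X i * X i * X i = 1 := fun i => by
      simp only [hX, hθy]; rw [← map_mul, ← map_mul, cycA_cube, map_one]
    have pairX : ∀ i j, i ≠ j → X i * X j * (X i * X j) = 1 := fun i j hij => by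
      simp only [hX, hθy]; rw [← map_mul, ← map_mul, cycA_pair i j hij, map_one]
    have Zeq : ∀ j, Z j = tw odd (t * X (e j) * t⁻¹) := fun j => by
      simp [hZ, wz, map_tw, hX, ht]
    have actA : ∀ i, A * X i * A⁻¹ = X (αL i) := fun i => by
      simp only [hX, hA, wa, hθy, hθw]
      rw [← map_inv, ← map_mul, ← map_mul, hline]
    have actA'Z : ∀ j, A' * Z j * A'⁻¹ = Z (α j) := fun j => by
      rw [Zeq, Zeq, tw_conj, hA'eq,
        show t * A * t⁻¹ * (t * X (e j) * t⁻¹) * (t * A * t⁻¹)⁻¹ = t * (A * X (e j) * A⁻¹) * t⁻¹ by group,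
        actA, hαe]
    have actS : ∀ i, S * X i * S⁻¹ = X (σL i) := fun i => by
      simp only [hX, hS, ws, hθy, hθw]
      rw [← map_inv, ← map_mul, ← map_mul, hline]
    -- the common part is fixed up to the twist
    have fixI : ∀ i, PI i → t * X i * t⁻¹ = tw odd (X i) := by
      intro i hi
      obtain ⟨s', hs'⟩ := eI.surjective ⟨i, hi⟩
      obtain ⟨s, hs, l, hl⟩ := hσorb s'
      have hS' : ∀ s, S * X (eI s) * S⁻¹ = X (eI (σ s)) := fun s => by rw [actS, hσI]
      have h1 := conj_pow_fam S (fun s => X (eI s)) σ hS' l s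
      rw [hl, hs'] at h1
      have hc : Commute t S := mul_inv_eq_iff_eq_mul.mp memS
      rw [← h1]
      calc t * (S ^ l * X (eI s) * (S ^ l)⁻¹) * t⁻¹ = (t * S ^ l) * X (eI s) * (t * S ^ l)⁻¹ := by group
        _ = S ^ l * (t * X (eI s) * t⁻¹) * (S ^ l)⁻¹ := by rw [(hc.pow_right l).eq]; group
        _ = _ := by rw [memI s hs, tw_conj]
    -- across the two sides
    have cross : ∀ i j, X (e i) * Z j * (X (e i) * Z j) = 1 := by
      intro i j
      obtain ⟨s, hs, l, hl⟩ := hαorb i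
      obtain ⟨s', hs', m, hm⟩ := hαorb j
      have r0 : X (e s) * Z s' * (X (e s) * Z s') = 1 := by
        have := hL (wy (e s) * wz s' * (wy (e s) * wz s')) (by
          simp only [List.mem_append, List.mem_map]
          exact Or.inr ⟨(s, s'), List.mem_product.mpr ⟨hs, hs'⟩, rfl⟩)
        rwa [map_mul, map_mul] at this
      have cA : Commute A (Z s') := by
        have := hL (wa * wz s' * (wz s' * wa)⁻¹) (by
          simp only [List.mem_append, List.mem_map]
          exact Or.inl (Or.inl (Or.inr ⟨s', hs', rfl⟩)))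
        rw [map_mul, map_inv, mul_inv_eq_one, map_mul, map_mul] at this
        exact this
      have cB : Commute A' (X (e s)) := by
        have := hL (wb * wy (e s) * (wy (e s) * wb)⁻¹) (by
          simp only [List.mem_append, List.mem_map]
          exact Or.inl (Or.inr ⟨s, hs, rfl⟩))
        rw [map_mul, map_inv, mul_inv_eq_one, map_mul, map_mul] at this
        exact this
      have h1 := pair_conj (A' ^ m) r0
      rw [(cB.pow_left m).eq, mul_inv_cancel_right, conj_pow_fam A' Z α actA'Z m s', hm] at h1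
      have h2 := pair_conj (A ^ l) h1
      have hZj : A ^ l * Z j * (A ^ l)⁻¹ = Z j := by
        have hAA : Commute A A' := memAB
        rw [← hm, ← conj_pow_fam A' Z α actA'Z m s',
          show A ^ l * (A' ^ m * Z s' * (A' ^ m)⁻¹) * (A ^ l)⁻¹ =
            (A ^ l * A' ^ m) * Z s' * (A ^ l * A' ^ m)⁻¹ by group,
          ((hAA.pow_left l).pow_right m).eq,
          show A' ^ m * A ^ l * Z s' * (A' ^ m * A ^ l)⁻¹ =
            A' ^ m * (A ^ l * Z s' * (A ^ l)⁻¹) * (A' ^ m)⁻¹ by group,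
          (cA.pow_left l).eq, mul_inv_cancel_right]
      have hAi : ∀ i, A * X (e i) * A⁻¹ = X (e (α i)) := fun i => by rw [actA, hαe]
      rw [hZj, conj_pow_fam A (fun i => X (e i)) α hAi l s, hl] at h2
      exact h2
    -- the whole family
    let F : Option (ZMod p) ⊕ Fin r → G := fun x => ψ (fw x)
    have hF3 : ∀ x, F x * F x * F x = 1 := by
      rintro (i | j)
      · exact cube i
      · show Z j * Z j * Z j = 1
        rw [Zeq]
        refine tw_cube _ ?_
        calc _ = t * (X (e j) * X (e j) * X (e j)) * t⁻¹ := by group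
          _ = 1 := by rw [cube]; group
    have hF2 : ∀ x y, x ≠ y → F x * F y * (F x * F y) = 1 := by
      have inI : ∀ i, PI i → X i = tw odd (t * X i * t⁻¹) := fun i hi => by
        rw [fixI i hi]; cases odd <;> simp [tw]
      have lr : ∀ i j, X i * Z j * (X i * Z j) = 1 := by
        intro i j
        by_cases hi : PI i
        · rw [inI i hi, Zeq]
          exact tw_pair _ (pair_conj t (pairX i (e j) (fun h => hi ⟨j, h.symm⟩)))
        · obtain ⟨i', rfl⟩ := not_not.mp hi
          exact cross i' j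
      rintro (i | i) (j | j) hne
      · exact pairX i j (fun h => hne (by rw [h]))
      · exact lr i j
      · exact pair_symm (lr j i)
      · show Z i * Z j * (Z i * Z j) = 1
        rw [Zeq, Zeq]
        exact tw_pair _ (pair_conj t (pairX _ _ (fun h => hne (by rw [e.injective h]))))
    set N := Subgroup.closure (Set.range F) with hN
    have hgenG : N = ⊤ := by
      have hθN : ∀ g, θ g ∈ N := by
        intro g
        have hg : g ∈ Subgroup.closure (Set.range (cycA (Ω := Option (ZMod p)))) := by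
          rw [closure_cycA]; trivial
        have := Subgroup.mem_map_of_mem θ hg
        rw [MonoidHom.map_closure] at this
        refine Subgroup.closure_mono ?_ this
        rintro _ ⟨_, ⟨i, rfl⟩, rfl⟩
        exact ⟨Sum.inl i, hθy i⟩
      have htN : t ∈ N := by
        rw [memT]
        have := Subgroup.mem_map_of_mem ψ htw₀
        rwa [MonoidHom.map_closure, ← Set.range_comp] at this
      rw [eq_top_iff]
      rintro g -
      obtain ⟨x, rfl⟩ := hψ g
      induction x using FreeGroup.induction_on with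
      | C1 => simpa using one_mem N
      | of i =>
        refine Fin.lastCases ?_ (fun i => ?_) i
        · exact htN
        · have : ψ (J (.of i)) ∈ N := by rw [← MonoidHom.comp_apply, ← hθ]; exact hθN _
          simpa [J] using this
      | inv_of i ih => rw [map_inv]; exact inv_mem ih
      | mul a b ha hb => rw [map_mul]; exact mul_mem ha hb
    exact card_of_family F hF3 hF2 hgenG

end CfsgLib.AltPres
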