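import Cfsg.Agent.Lib.AltPres.Line

/-!
Moore's presentation of the alternating groups.
-/

set_option autoImplicit false

namespace CfsgLib.AltPres.Moore

open Equiv CfsgLib.AltPres

section Abstract

variable {G : Type*} [Group G] (m : ℕ) (X : ℕ → G)

/-- the derived three-cycles -/
def y : ℕ → G
  | 0 => X 0
  | k + 1 => X (k + 1) * (y k)⁻¹ * X (k + 1)

variable (h0 : X 0 * X 0 * X 0 = 1) (hsq : ∀ k, 1 ≤ k → k < m → X k * X k = 1)
  (hadj : ∀ k, k + 1 < m → (X k * X (k + 1)) * (X k * X (k + 1)) * (X k * X (k + 1)) = 1)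
  (hfar : ∀ i j, i + 1 < j → j < m → (X i * X j) * (X i * X j) = 1)

include hsq in
theorem inv_eq {k : ℕ} (h1 : 1 ≤ k) (hk : k < m) : (X k)⁻¹ = X k :=
  inv_eq_of_mul_eq_one_left (hsq k h1 hk)

include hsq in
theorem cancel {k : ℕ} (h1 : 1 ≤ k) (hk : k < m) (g : G) : X k * (X k * g) = g := by
  rw [← mul_assoc, hsq k h1 hk, one_mul]

include hsq in
theorem conj_inv {k : ℕ} (h1 : 1 ≤ k) (hk : k < m) (g : G) : (X k * g * X k)⁻¹ = X k * g⁻¹ * X k := by
  rw [mul_inv_rev, mul_inv_rev, inv_eq m X hsq h1 hk, mul_assoc]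

include hsq hfar in
theorem commute_far {i j : ℕ} (hi : 1 ≤ i) (h : i + 1 < j) (hj : j < m) : X i * X j = X j * X i := by
  have := inv_eq_of_mul_eq_one_left (hfar i j h hj)
  rw [mul_inv_rev, inv_eq m X hsq hi (by omega), inv_eq m X hsq (by omega) hj] at this
  exact this.symm

include hsq hadj in
theorem braid {k : ℕ} (hk : 1 ≤ k) (h : k + 1 < m) :
    X k * X (k + 1) * X k = X (k + 1) * X k * X (k + 1) := by
  have e := inv_eq_of_mul_eq_one_left (show (X k * X (k + 1) * X k) * (X (k + 1) * X k * X (k + 1)) = 1 by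
    have := hadj k h
    simpa [mul_assoc] using this)
  rw [mul_inv_rev, mul_inv_rev, inv_eq m X hsq (by omega) h, inv_eq m X hsq hk (by omega), ← mul_assoc] at e
  exact e.symm

include hsq in
theorem swap_down {k : ℕ} (hk : k + 1 < m) : X (k + 1) * y X k * X (k + 1) = (y X (k + 1))⁻¹ := by
  show _ = (X (k + 1) * (y X k)⁻¹ * X (k + 1))⁻¹
  rw [conj_inv m X hsq (by omega) hk, inv_inv]

include hsq in
theorem swap_up {k : ℕ} (hk : k + 1 < m) : X (k + 1) * y X (k + 1) * X (k + 1) = (y X k)⁻¹ := by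
  show X (k + 1) * (X (k + 1) * (y X k)⁻¹ * X (k + 1)) * X (k + 1) = _
  rw [mul_assoc, mul_assoc, mul_assoc, hsq _ (by omega) hk, mul_one, cancel m X hsq (by omega) hk]

include hsq hfar in
theorem fix_low {k j : ℕ} (hj : j + 1 < k) (hk : k < m) : X k * y X j * X k = (y X j)⁻¹ := by
  induction j with
  | zero =>
    have := inv_eq_of_mul_eq_one_right (show X 0 * (X k * X 0 * X k) = 1 by
      have := hfar 0 k hj hk
      simpa [mul_assoc] using this)
    exact this.symm
  | succ j ih =>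
    have hc := commute_far m X hsq hfar (i := j + 1) (j := k) (by omega) hj hk
    show X k * (X (j + 1) * (y X j)⁻¹ * X (j + 1)) * X k = (X (j + 1) * (y X j)⁻¹ * X (j + 1))⁻¹
    rw [conj_inv m X hsq (by omega) (by omega), inv_inv]
    have e : X k * (y X j)⁻¹ * X k = y X j := by
      rw [← conj_inv m X hsq (by omega) hk, ih (by omega), inv_inv]
    calc X k * (X (j + 1) * (y X j)⁻¹ * X (j + 1)) * X k
        = (X k * X (j + 1)) * (y X j)⁻¹ * (X (j + 1) * X k) := by simp [mul_assoc]
      _ = (X (j + 1) * X k) * (y X j)⁻¹ * (X k * X (j + 1)) := by rw [hc]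
      _ = X (j + 1) * (X k * (y X j)⁻¹ * X k) * X (j + 1) := by simp [mul_assoc]
      _ = _ := by rw [e]

include hsq hadj hfar in
theorem fix_high : ∀ {j k : ℕ}, 1 ≤ k → k < j → j < m → X k * y X j * X k = (y X j)⁻¹ := by
  intro j
  induction j with
  | zero => intro k _ h; omega
  | succ j ih =>
    intro k hk1 hkj hjm
    rcases lt_or_eq_of_le (Nat.le_of_lt_succ hkj) with hlt | rfl
    · have hc := commute_far m X hsq hfar (i := k) (j := j + 1) hk1 (by omega) hjm
      show X k * (X (j + 1) * (y X j)⁻¹ * X (j + 1)) * X k = (X (j + 1) * (y X j)⁻¹ * X (j + 1))⁻¹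
      rw [conj_inv m X hsq (by omega) hjm, inv_inv]
      have e : X k * (y X j)⁻¹ * X k = y X j := by
        rw [← conj_inv m X hsq hk1 (by omega), ih hk1 hlt (by omega), inv_inv]
      calc X k * (X (j + 1) * (y X j)⁻¹ * X (j + 1)) * X k
          = (X k * X (j + 1)) * (y X j)⁻¹ * (X (j + 1) * X k) := by simp [mul_assoc]
        _ = (X (j + 1) * X k) * (y X j)⁻¹ * (X k * X (j + 1)) := by rw [hc]
        _ = X (j + 1) * (X k * (y X j)⁻¹ * X k) * X (j + 1) := by simp [mul_assoc]
        _ = _ := by rw [e]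
    · obtain ⟨l, rfl⟩ : ∃ l, k = l + 1 := ⟨k - 1, by omega⟩
      have hb := braid m X hsq hadj (k := l + 1) (by omega) hjm
      have e : X (l + 1 + 1) * (y X l)⁻¹ * X (l + 1 + 1) = y X l := by
        rw [← conj_inv m X hsq (by omega) hjm, fix_low m X hsq hfar (by omega) hjm, inv_inv]
      show X (l + 1) * (X (l + 1 + 1) * (y X (l + 1))⁻¹ * X (l + 1 + 1)) * X (l + 1) =
        (X (l + 1 + 1) * (y X (l + 1))⁻¹ * X (l + 1 + 1))⁻¹
      rw [conj_inv m X hsq (k := l + 1 + 1) (by omega) hjm, inv_inv,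
        ← swap_down m X hsq (k := l) (by omega)]
      calc X (l + 1) * (X (l + 1 + 1) * (X (l + 1) * y X l * X (l + 1)) * X (l + 1 + 1)) * X (l + 1)
          = (X (l + 1) * X (l + 1 + 1) * X (l + 1)) * y X l * (X (l + 1) * X (l + 1 + 1) * X (l + 1)) := by
            simp [mul_assoc]
        _ = X (l + 1 + 1) * X (l + 1) * (X (l + 1 + 1) * y X l * X (l + 1 + 1)) * X (l + 1) * X (l + 1 + 1) := by
            rw [hb]; simp [mul_assoc]
        _ = X (l + 1 + 1) * (X (l + 1) * (y X l)⁻¹ * X (l + 1)) * X (l + 1 + 1) := by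
            rw [fix_low m X hsq hfar (by omega) hjm]; simp [mul_assoc]
        _ = _ := rfl

include h0 hsq in
theorem cube : ∀ {j : ℕ}, j < m → y X j * y X j * y X j = 1 := by
  intro j
  induction j with
  | zero => exact fun _ => h0
  | succ j ih =>
    intro hj
    have e : (y X j)⁻¹ * (y X j)⁻¹ * (y X j)⁻¹ = 1 := by
      rw [← mul_inv_rev, ← mul_inv_rev, inv_eq_one, ← mul_assoc]; exact ih (by omega)
    show X (j + 1) * (y X j)⁻¹ * X (j + 1) * (X (j + 1) * (y X j)⁻¹ * X (j + 1)) *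
      (X (j + 1) * (y X j)⁻¹ * X (j + 1)) = 1
    calc _ = X (j + 1) * (((y X j)⁻¹ * (y X j)⁻¹) * (y X j)⁻¹) * X (j + 1) := by
          simp [mul_assoc, cancel m X hsq (k := j + 1) (by omega) hj]
      _ = 1 := by rw [e, mul_one, hsq _ (by omega) hj]

include h0 hsq hadj in
theorem base_pair (h : 1 < m) : y X 0 * y X 1 * (y X 0 * y X 1) = 1 := by
  have hs := hsq 1 le_rfl h
  have hinv : (X 0)⁻¹ = X 0 * X 0 := inv_eq_of_mul_eq_one_left h0
  have e : X 1 * X 0 * X 1 = (X 0)⁻¹ * X 1 * (X 0)⁻¹ := by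
    have h3 : (X 0 * X 1 * X 0) * (X 1 * X 0 * X 1) = 1 := by simpa [mul_assoc] using hadj 0 h
    rw [← inv_eq_of_mul_eq_one_right h3, mul_inv_rev, mul_inv_rev, inv_eq m X hsq le_rfl h, mul_assoc]
  show X 0 * (X 1 * (X 0)⁻¹ * X 1) * (X 0 * (X 1 * (X 0)⁻¹ * X 1)) = 1
  calc _ = X 0 * X 1 * (X 0)⁻¹ * (X 1 * X 0 * X 1) * (X 0)⁻¹ * X 1 := by simp [mul_assoc]
    _ = X 0 * X 1 * ((X 0)⁻¹ * (X 0)⁻¹) * X 1 * ((X 0)⁻¹ * (X 0)⁻¹) * X 1 := by rw [e]; simp [mul_assoc]
    _ = X 0 * X 1 * X 0 * X 1 * X 0 * X 1 := by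
        have : (X 0)⁻¹ * (X 0)⁻¹ = X 0 := by rw [← mul_inv_rev, ← hinv, inv_inv]
        rw [this]
    _ = 1 := by simpa [mul_assoc] using hadj 0 h

theorem pair_inv {a b : G} (h : a * b * (a * b) = 1) : b⁻¹ * a⁻¹ * (b⁻¹ * a⁻¹) = 1 := by
  rw [← mul_inv_rev, ← mul_inv_rev, inv_eq_one]; exact h

theorem pair_comm {a b : G} (h : a * b * (a * b) = 1) : b * a * (b * a) = 1 := by
  calc b * a * (b * a) = a⁻¹ * (a * b * (a * b)) * a := by group
    _ = 1 := by rw [h]; group

include h0 hsq hadj hfar in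
theorem pair : ∀ s i j : ℕ, i + j = s → i < j → j < m → y X i * y X j * (y X i * y X j) = 1 := by
  intro s
  induction s using Nat.strong_induction_on with
  | _ s ih =>
    intro i j hs hij hj
    have key : ∀ k a b, 1 ≤ k → k < m → X k * a * X k = (y X i)⁻¹ → X k * b * X k = (y X j)⁻¹ →
        a * b * (a * b) = 1 → y X i * y X j * (y X i * y X j) = 1 := by
      intro k a b hk1 hkm ea eb hab
      have e := pair_inv (a := X k * a * X k) (b := X k * b * X k) (by
        calc _ = X k * (a * b * (a * b)) * X k := by simp [mul_assoc, cancel m X hsq hk1 hkm]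
          _ = 1 := by rw [hab, mul_one, hsq k hk1 hkm])
      rw [ea, eb, inv_inv, inv_inv] at e
      exact pair_comm e
    by_cases h : i + 1 < j
    · obtain ⟨l, rfl⟩ : ∃ l, j = l + 1 := ⟨j - 1, by omega⟩
      exact key (l + 1) (y X i) (y X l) (by omega) hj (fix_low m X hsq hfar h hj)
        (swap_down m X hsq hj) (ih (i + l) (by omega) i l rfl (by omega) (by omega))
    · obtain rfl : j = i + 1 := by omega
      rcases Nat.eq_zero_or_pos i with rfl | hi
      · exact base_pair m X h0 hsq hadj hj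
      · obtain ⟨l, rfl⟩ : ∃ l, i = l + 1 := ⟨i - 1, by omega⟩
        exact key (l + 1) (y X l) (y X (l + 1 + 1)) (by omega) (by omega) (swap_down m X hsq (by omega))
          (fix_high m X hsq hadj hfar (by omega) (by omega) hj)
          (ih (l + (l + 1 + 1)) (by omega) l (l + 1 + 1) rfl (by omega) hj)

include hsq hadj hfar in
theorem adj_cube : ∀ {k : ℕ}, k + 1 < m →
    X (k + 1) * y X k * (X (k + 1) * y X k) * (X (k + 1) * y X k) = 1 := by
  intro k
  induction k with
  | zero =>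
    intro h
    have hh := hadj 0 h
    show X 1 * X 0 * (X 1 * X 0) * (X 1 * X 0) = 1
    calc _ = (X 0)⁻¹ * (X 0 * X 1 * (X 0 * X 1) * (X 0 * X 1)) * X 0 := by group
      _ = 1 := by rw [hh]; group
  | succ k ih =>
    intro h
    have hb := braid m X hsq hadj (k := k + 1) (by omega) h
    have e1 : X (k + 1 + 1) * y X (k + 1) =
        X (k + 1) * X (k + 1 + 1) * (X (k + 1) * y X k) * X (k + 1 + 1) * X (k + 1) := by
      have e := fix_low m X hsq hfar (j := k) (k := k + 1 + 1) (by omega) h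
      show X (k + 1 + 1) * (X (k + 1) * (y X k)⁻¹ * X (k + 1)) = _
      rw [← e]
      calc X (k + 1 + 1) * (X (k + 1) * (X (k + 1 + 1) * y X k * X (k + 1 + 1)) * X (k + 1))
          = (X (k + 1 + 1) * X (k + 1) * X (k + 1 + 1)) * y X k * X (k + 1 + 1) * X (k + 1) := by
            simp [mul_assoc]
        _ = _ := by rw [← hb]; simp [mul_assoc]
    rw [e1]
    calc _ = X (k + 1) * X (k + 1 + 1) *
          ((X (k + 1) * y X k) * (X (k + 1) * y X k) * (X (k + 1) * y X k)) * X (k + 1 + 1) * X (k + 1) := by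
          simp [mul_assoc, cancel m X hsq (k := k + 1) (by omega) (by omega),
            cancel m X hsq (k := k + 1 + 1) (by omega) h]
      _ = 1 := by
          rw [ih (by omega), mul_one, mul_assoc (X (k + 1)), hsq _ (by omega) h, mul_one,
            hsq _ (by omega) (by omega)]

include hsq hadj hfar in
theorem gen_eq {k : ℕ} (h : k + 1 < m) : X (k + 1) = y X k * (y X (k + 1))⁻¹ * y X k := by
  rw [← swap_down m X hsq h]
  have := adj_cube m X hsq hadj hfar h
  have e : X (k + 1) * (y X k * (X (k + 1) * y X k * X (k + 1)) * y X k) = 1 := by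
    simpa [mul_assoc] using this
  exact ((inv_eq m X hsq (by omega) h).symm.trans (inv_eq_of_mul_eq_one_right e))

end Abstract

section Model

variable (m : ℕ)

/-- the model generators -/
def gen (i : Fin m) : Perm (Bool ⊕ Fin m) :=
  if i.val = 0 then cyc3 i
  else swap (Sum.inl false) (Sum.inl true) * swap (Sum.inr ⟨i.val - 1, by omega⟩) (Sum.inr i)

theorem gen_mem (i : Fin m) : gen m i ∈ alternatingGroup (Bool ⊕ Fin m) := by
  unfold gen
  split
  · exact cyc3_mem i
  · rename_i h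
    rw [Perm.mem_alternatingGroup, map_mul, Perm.sign_swap (by simp),
      Perm.sign_swap (by simp [Fin.ext_iff]; omega)]
    rfl

/-- the model generators as even permutations -/
def genA (i : Fin m) : alternatingGroup (Bool ⊕ Fin m) := ⟨gen m i, gen_mem m i⟩

theorem gen_zero {i : Fin m} (h : i.val = 0) : gen m i = cyc3 i := if_pos h

theorem gen_pos {i j : Fin m} (h : j.val = i.val + 1) :
    gen m j = swap (Sum.inl false) (Sum.inl true) * swap (Sum.inr i) (Sum.inr j) := by
  have : gen m j = _ := if_neg (by omega : ¬ j.val = 0)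
  rw [this]
  congr 4
  omega

theorem commute_swaps {α : Type*} [DecidableEq α] {a b c d : α} (hac : a ≠ c) (had : a ≠ d) (hbc : b ≠ c)
    (hbd : b ≠ d) : Commute (swap a b) (swap c d) := by
  refine (Perm.Disjoint.commute fun x => ?_)
  by_cases h : x = c ∨ x = d
  · left
    rcases h with rfl | rfl
    · exact swap_apply_of_ne_of_ne hac.symm hbc.symm
    · exact swap_apply_of_ne_of_ne had.symm hbd.symm
  · right
    push Not at h
    exact swap_apply_of_ne_of_ne h.1 h.2

theorem cube_swaps {α : Type*} [Fintype α] [DecidableEq α] {a b c : α} (ab : a ≠ b) (ac : a ≠ c) (bc : b ≠ c) :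
    swap a b * swap b c * (swap a b * swap b c) * (swap a b * swap b c) = 1 := by
  have h := (Perm.isThreeCycle_swap_mul_swap_same ab.symm bc ac).orderOf
  rw [swap_comm b a] at h
  have := pow_orderOf_eq_one (swap a b * swap b c)
  rw [h, pow_succ, pow_two] at this
  exact this

theorem rel_cube {i : Fin m} (h : i.val = 0) : gen m i * gen m i * gen m i = 1 := by
  rw [gen_zero m h]
  exact congrArg Subtype.val (cycA_cube i)

theorem rel_sq {i : Fin m} (h : 1 ≤ i.val) : gen m i * gen m i = 1 := by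
  rw [gen_pos m (i := ⟨i.val - 1, by omega⟩) (j := i) (by simp only; omega)]
  have hc := commute_swaps (a := (Sum.inl false : Bool ⊕ Fin m)) (b := Sum.inl true)
    (c := Sum.inr (⟨i.val - 1, by omega⟩ : Fin m)) (d := Sum.inr i) (by simp) (by simp) (by simp) (by simp)
  rw [hc.symm.mul_mul_mul_comm]
  simp

theorem rel_adj {i j : Fin m} (h : j.val = i.val + 1) :
    gen m i * gen m j * (gen m i * gen m j) * (gen m i * gen m j) = 1 := by
  by_cases h0 : i.val = 0
  · have e : gen m i * gen m j = swap (Sum.inl false) (Sum.inr i) * swap (Sum.inr i) (Sum.inr j) := by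
      rw [gen_zero m h0, gen_pos m h, cyc3, ← mul_assoc]
      congr 1
      have := swap_apply_apply (swap (Sum.inl false : Bool ⊕ Fin m) (Sum.inl true)) (Sum.inl true) (Sum.inr i)
      rw [swap_apply_right, swap_apply_of_ne_of_ne (by simp) (by simp), swap_inv] at this
      exact this.symm
    rw [e]
    exact cube_swaps (by simp) (by simp) (by simp [Fin.ext_iff]; omega)
  · obtain ⟨p, hp⟩ : ∃ p : Fin m, i.val = p.val + 1 := ⟨⟨i.val - 1, by omega⟩, by simp only; omega⟩
    have e : gen m i * gen m j = swap (Sum.inr p) (Sum.inr i) * swap (Sum.inr i) (Sum.inr j) := by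
      rw [gen_pos m hp, gen_pos m h]
      have hc := commute_swaps (a := (Sum.inl false : Bool ⊕ Fin m)) (b := Sum.inl true)
        (c := Sum.inr p) (d := Sum.inr i) (by simp) (by simp) (by simp) (by simp)
      rw [hc.eq, mul_assoc, ← mul_assoc (swap (Sum.inl false) (Sum.inl true)), swap_mul_self, one_mul]
    rw [e]
    exact cube_swaps (by simp [Fin.ext_iff]; omega) (by simp [Fin.ext_iff]; omega) (by simp [Fin.ext_iff]; omega)

theorem rel_far {i j : Fin m} (h : i.val + 1 < j.val) :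
    gen m i * gen m j * (gen m i * gen m j) = 1 := by
  obtain ⟨q, hq⟩ : ∃ q : Fin m, j.val = q.val + 1 := ⟨⟨j.val - 1, by omega⟩, by simp only; omega⟩
  set s : Perm (Bool ⊕ Fin m) := swap (Sum.inl false) (Sum.inl true) with hs
  set t : Perm (Bool ⊕ Fin m) := swap (Sum.inr q) (Sum.inr j) with ht
  obtain ⟨u, hu, hut⟩ : ∃ u : Perm (Bool ⊕ Fin m), gen m i * s = u ∧ u * u = 1 ∧ Commute u t := by
    by_cases h0 : i.val = 0
    · have e : gen m i * s = swap (Sum.inl false) (Sum.inr i) := by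
        rw [gen_zero m h0, cyc3, hs]
        have := swap_apply_apply (swap (Sum.inl false : Bool ⊕ Fin m) (Sum.inl true)) (Sum.inl true) (Sum.inr i)
        rw [swap_apply_right, swap_apply_of_ne_of_ne (by simp) (by simp), swap_inv] at this
        exact this.symm
      exact ⟨_, e, swap_mul_self _ _, commute_swaps (by simp) (by simp) (by simp [Fin.ext_iff]; omega)
        (by simp [Fin.ext_iff]; omega)⟩
    · obtain ⟨p, hp⟩ : ∃ p : Fin m, i.val = p.val + 1 := ⟨⟨i.val - 1, by omega⟩, by simp only; omega⟩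
      have hc := commute_swaps (a := (Sum.inl false : Bool ⊕ Fin m)) (b := Sum.inl true)
        (c := Sum.inr p) (d := Sum.inr i) (by simp) (by simp) (by simp) (by simp)
      refine ⟨_, by rw [gen_pos m hp, hs, hc.eq, mul_assoc, swap_mul_self, mul_one], swap_mul_self _ _, ?_⟩
      exact commute_swaps (by simp [Fin.ext_iff]; omega) (by simp [Fin.ext_iff]; omega)
        (by simp [Fin.ext_iff]; omega) (by simp [Fin.ext_iff]; omega)
  rw [gen_pos m hq, ← hs, ← ht, ← mul_assoc (gen m i) s t, hu, hut.2.symm.mul_mul_mul_comm, hut.1, one_mul,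
    ht, swap_mul_self]

theorem closure_genA : Subgroup.closure (Set.range (genA m)) = ⊤ := by
  rw [eq_top_iff, ← closure_cycA, Subgroup.closure_le]
  rintro _ ⟨i, rfl⟩
  obtain ⟨k, hk⟩ : ∃ k, i.val = k := ⟨_, rfl⟩
  induction k generalizing i with
  | zero =>
    exact Subgroup.subset_closure ⟨i, Subtype.ext (gen_zero m hk)⟩
  | succ k ih =>
    have hp := ih ⟨k, by omega⟩ rfl
    have hg : genA m i ∈ Subgroup.closure (Set.range (genA m)) := Subgroup.subset_closure ⟨i, rfl⟩
    have e : cycA i = genA m i * (cycA ⟨k, by omega⟩)⁻¹ * (genA m i)⁻¹ := by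
      apply Subtype.ext
      show cyc3 i = gen m i * (cyc3 (⟨k, by omega⟩ : Fin m))⁻¹ * (gen m i)⁻¹
      have := cyc3_conj_swap (gen m i) (fun b => by
        rw [gen_pos m (i := ⟨k, by omega⟩) hk]
        cases b <;> simp [swap_apply_def]) (⟨k, by omega⟩ : Fin m) i (by
        rw [gen_pos m (i := ⟨k, by omega⟩) hk]
        simp [swap_apply_def])
      rw [← inv_inv (cyc3 i), ← this, mul_inv_rev, mul_inv_rev, inv_inv, mul_assoc]
    rw [e]
    exact mul_mem (mul_mem hg (inv_mem hp)) (inv_mem hg)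

end Model

/-- Moore's relators. -/
def rels (m : ℕ) : Set (FreeGroup (Fin m)) :=
  {g : FreeGroup (Fin m) | ∃ i : Fin m, i.val = 0 ∧ g = FreeGroup.of i ^ 3} ∪
    {g | ∃ i : Fin m, 1 ≤ i.val ∧ g = FreeGroup.of i ^ 2} ∪
    {g | ∃ i j : Fin m, j.val = i.val + 1 ∧ g = (FreeGroup.of i * FreeGroup.of j) ^ 3} ∪
    {g | ∃ i j : Fin m, i.val + 1 < j.val ∧ g = (FreeGroup.of i * FreeGroup.of j) ^ 2}

theorem moore_presentation (m : ℕ) :
    Nonempty (PresentedGroup (rels m) ≃* alternatingGroup (Bool ⊕ Fin m)) := by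
  classical
  have hrels : ∀ r ∈ rels m, FreeGroup.lift (genA m) r = 1 := by
    intro r hr
    rcases hr with ((⟨i, hi, rfl⟩ | ⟨i, hi, rfl⟩) | ⟨i, j, hij, rfl⟩) | ⟨i, j, hij, rfl⟩ <;>
      apply Subtype.ext <;>
      simp only [map_pow, map_mul, FreeGroup.lift_apply_of, pow_succ, pow_zero, one_mul, Subgroup.coe_mul,
        OneMemClass.coe_one, genA]
    · exact rel_cube m hi
    · exact rel_sq m hi
    · exact rel_adj m hij
    · exact rel_far m hij
  set φ := PresentedGroup.toGroup hrels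
  have hsurj : Function.Surjective φ := by
    rw [← MonoidHom.range_eq_top, eq_top_iff, ← closure_genA m, Subgroup.closure_le]
    rintro _ ⟨i, rfl⟩
    exact ⟨PresentedGroup.of i, PresentedGroup.toGroup.of hrels⟩
  let X : ℕ → PresentedGroup (rels m) := fun k => if h : k < m then PresentedGroup.of ⟨k, h⟩ else 1
  have hX : ∀ k (h : k < m), X k = PresentedGroup.mk (rels m) (FreeGroup.of ⟨k, h⟩) := fun k h => dif_pos h
  have h0 : X 0 * X 0 * X 0 = 1 := by
    by_cases h : 0 < m
    · have := PresentedGroup.one_of_mem (rels := rels m) (x := FreeGroup.of (⟨0, h⟩ : Fin m) ^ 3)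
        (Or.inl (Or.inl (Or.inl ⟨_, rfl, rfl⟩)))
      rw [map_pow, ← hX 0 h, pow_succ, pow_two] at this
      exact this
    · simp [X, h]
  have hsq : ∀ k, 1 ≤ k → k < m → X k * X k = 1 := fun k h1 h => by
    have := PresentedGroup.one_of_mem (rels := rels m) (x := FreeGroup.of (⟨k, h⟩ : Fin m) ^ 2)
      (Or.inl (Or.inl (Or.inr ⟨_, h1, rfl⟩)))
    rw [map_pow, ← hX k h, pow_two] at this
    exact this
  have hadj : ∀ k, k + 1 < m → X k * X (k + 1) * (X k * X (k + 1)) * (X k * X (k + 1)) = 1 := fun k h => by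
    have := PresentedGroup.one_of_mem (rels := rels m)
      (x := (FreeGroup.of (⟨k, by omega⟩ : Fin m) * FreeGroup.of (⟨k + 1, h⟩ : Fin m)) ^ 3)
      (Or.inl (Or.inr ⟨_, _, rfl, rfl⟩))
    rw [map_pow, map_mul, ← hX k (by omega), ← hX (k + 1) h, pow_succ, pow_two] at this
    exact this
  have hfar : ∀ i j, i + 1 < j → j < m → X i * X j * (X i * X j) = 1 := fun i j hij hj => by
    have := PresentedGroup.one_of_mem (rels := rels m)
      (x := (FreeGroup.of (⟨i, by omega⟩ : Fin m) * FreeGroup.of (⟨j, hj⟩ : Fin m)) ^ 2)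
      (Or.inr ⟨_, _, hij, rfl⟩)
    rw [map_pow, map_mul, ← hX i (by omega), ← hX j hj, pow_two] at this
    exact this
  have hgen : Subgroup.closure (Set.range fun i : Fin m => y X i.val) = ⊤ := by
    rw [eq_top_iff, ← PresentedGroup.closure_range_of (rels m), Subgroup.closure_le]
    rintro _ ⟨⟨k, hk⟩, rfl⟩
    show PresentedGroup.mk (rels m) (FreeGroup.of _) ∈ _
    rw [← hX k hk]
    rcases k with _ | k
    · exact Subgroup.subset_closure ⟨⟨0, hk⟩, rfl⟩
    · rw [gen_eq m X hsq hadj hfar hk]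
      have ha : y X k ∈ Subgroup.closure (Set.range fun i : Fin m => y X i.val) :=
        Subgroup.subset_closure ⟨⟨k, by omega⟩, rfl⟩
      exact mul_mem (mul_mem ha (inv_mem (Subgroup.subset_closure ⟨⟨k + 1, hk⟩, rfl⟩))) ha
  obtain ⟨hf, hle⟩ := card_of_family (fun i : Fin m => y X i.val) (fun i => cube m X h0 hsq i.isLt)
    (fun i j hij => by
      rcases lt_or_gt_of_ne (Fin.val_ne_of_ne hij) with h | h
      · exact pair m X h0 hsq hadj hfar _ _ _ rfl h j.isLt
      · exact pair_comm (pair m X h0 hsq hadj hfar _ _ _ rfl h i.isLt)) hgen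
  exact ⟨MulEquiv.ofBijective φ ((Nat.bijective_iff_surjective_and_card φ).2
    ⟨hsurj, le_antisymm hle (Nat.card_le_card_of_surjective φ hsurj)⟩)⟩

end CfsgLib.AltPres.Moore
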