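import Cfsg.Agent.Lib.AltPres.Line
import Cfsg.Agent.Lib.AltPres.Carmichael
import Cfsg.Agent.S0088

/-!
# Stem extensions of alternating groups have kernel of order at most two
-/

set_option autoImplicit false

namespace CfsgLib.AltPres.Mult

open Equiv
open scoped commutatorElement

variable {Γ : Type*} [Group Γ] {m : ℕ} (π : Γ →* alternatingGroup (Bool ⊕ Fin m))

theorem generated (hsurj : Function.Surjective π) (hZc : π.ker ≤ Subgroup.center Γ)
    (hZd : π.ker ≤ commutator Γ) (y : Fin m → Γ) (hy : ∀ i, π (y i) = cycA i) :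
    Subgroup.closure (Set.range y) = ⊤ := by
  set H := Subgroup.closure (Set.range y)
  have hmap : H.map π = ⊤ := by
    rw [MonoidHom.map_closure, ← Set.range_comp,
      show π ∘ y = cycA from funext hy, closure_cycA]
  have hsplit : ∀ g : Γ, ∃ h ∈ H, ∃ k ∈ π.ker, g = h * k := by
    intro g
    obtain ⟨h, hh, e⟩ : π g ∈ H.map π := hmap ▸ Subgroup.mem_top _
    exact ⟨h, hh, h⁻¹ * g, by simp [MonoidHom.mem_ker, e], by group⟩
  have hcom : commutator Γ ≤ H := by
    rw [commutator_def, Subgroup.commutator_le]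
    intro a _ b _
    obtain ⟨h, hh, k, hk, rfl⟩ := hsplit a
    obtain ⟨h', hh', k', hk', rfl⟩ := hsplit b
    have c := Subgroup.mem_center_iff.mp (hZc hk)
    have c' := Subgroup.mem_center_iff.mp (hZc hk')
    have e : ⁅h * k, h' * k'⁆ = ⁅h, h'⁆ := by
      simp only [commutatorElement_def]
      calc h * k * (h' * k') * (h * k)⁻¹ * (h' * k')⁻¹
          = h * (k * (h' * k')) * k⁻¹ * h⁻¹ * k'⁻¹ * h'⁻¹ := by group
        _ = h * h' * (k' * h⁻¹) * k'⁻¹ * h'⁻¹ := by rw [← c]; group
        _ = _ := by rw [← c']; group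
    rw [e, commutatorElement_def]
    exact mul_mem (mul_mem (mul_mem hh hh') (inv_mem hh)) (inv_mem hh')
  exact eq_top_iff.mpr fun g _ => by
    obtain ⟨h, hh, k, hk, rfl⟩ := hsplit g
    exact mul_mem hh (hcom (hZd hk))

theorem bound [Finite Γ] (hsurj : Function.Surjective π) (hZc : π.ker ≤ Subgroup.center Γ)
    (hZd : π.ker ≤ commutator Γ) (hm : 1 ≤ m) (y : Fin m → Γ) (hy : ∀ i, π (y i) = cycA i)
    (h3 : ∀ i, y i * y i * y i = 1) (z : Γ) (hz : z ∈ π.ker) (hz2 : z * z = 1)
    (hpair : ∀ i j, i ≠ j → y i * y j * (y i * y j) = z) : Nat.card π.ker ≤ 2 := by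
  classical
  set W := Subgroup.zpowers z
  have hWc : W ≤ Subgroup.center Γ := Subgroup.zpowers_le.mpr (hZc hz)
  haveI : W.Normal := ⟨fun a ha g => by
    rw [Subgroup.mem_center_iff.mp (hWc ha) g, mul_inv_cancel_right]; exact ha⟩
  set ρ := QuotientGroup.mk' W
  obtain ⟨_, hq⟩ := carmichael_card (y := fun i => ρ (y i))
    (fun i => by simp only [← map_mul, h3, map_one])
    (fun i j hij => by
      simp only [← map_mul]
      rw [hpair i j hij]
      exact (QuotientGroup.eq_one_iff _).mpr (Subgroup.mem_zpowers z)) Finset.univ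
  have htop : Subgroup.closure ((fun i => ρ (y i)) '' ((Finset.univ : Finset (Fin m)) : Set (Fin m))) = ⊤ := by
    rw [Finset.coe_univ, Set.image_univ, show (fun i => ρ (y i)) = ρ ∘ y from rfl, Set.range_comp,
      ← MonoidHom.map_closure, generated π hsurj hZc hZd y hy,
      Subgroup.map_top_of_surjective _ (QuotientGroup.mk'_surjective W)]
  rw [htop, Subgroup.card_top, Finset.card_univ, Fintype.card_fin] at hq
  haveI : Nontrivial (Bool ⊕ Fin m) := ⟨⟨Sum.inl true, Sum.inl false, by simp⟩⟩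
  have hA : 2 * Nat.card (alternatingGroup (Bool ⊕ Fin m)) = (m + 2).factorial := by
    rw [Nat.card_eq_fintype_card, two_mul_card_alternatingGroup, Fintype.card_perm,
      Fintype.card_sum, Fintype.card_bool, Fintype.card_fin, add_comm 2 m]
  have hΓ : Nat.card Γ = Nat.card (alternatingGroup (Bool ⊕ Fin m)) * Nat.card π.ker := by
    rw [Subgroup.card_eq_card_quotient_mul_card_subgroup π.ker,
      Nat.card_congr (QuotientGroup.quotientKerEquivOfSurjective π hsurj).toEquiv]
  have hΓ' := Subgroup.card_eq_card_quotient_mul_card_subgroup W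
  have hW : Nat.card W ≤ 2 := by
    rw [Nat.card_zpowers]
    exact Nat.le_of_dvd (by norm_num) (orderOf_dvd_of_pow_eq_one (by rw [pow_two, hz2]))
  have hpos : 0 < Nat.card (alternatingGroup (Bool ⊕ Fin m)) := Nat.card_pos
  have : Nat.card (alternatingGroup (Bool ⊕ Fin m)) * Nat.card π.ker ≤
      Nat.card (alternatingGroup (Bool ⊕ Fin m)) * 2 := by
    rw [← hΓ, hΓ']
    exact Nat.mul_le_mul (by omega) hW
  exact Nat.le_of_mul_le_mul_left this hpos

/-- Characters vanish on the part of a group of even permutations living on few points. -/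
theorem hom_trivial_of_support {α C : Type*} [Fintype α] [DecidableEq α] [CommGroup C]
    (K : Subgroup (alternatingGroup α)) (q : α → Prop) [DecidablePred q]
    (hq : Fintype.card {x // q x} = 2 ∨ 5 ≤ Fintype.card {x // q x})
    (hK : ∀ g : alternatingGroup α, (∀ x, (g : Perm α) x ≠ x → q x) → g ∈ K)
    (ψ : K →* C) (a : K) (ha : ∀ x, (a : Perm α) x ≠ x → q x) : ψ a = 1 := by
  let ι₀ : alternatingGroup {x // q x} →* alternatingGroup α :=
    MonoidHom.mk' (fun g => ⟨Perm.ofSubtype (g : Perm {x // q x}), by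
      rw [Perm.mem_alternatingGroup, Perm.sign_ofSubtype]; exact Perm.mem_alternatingGroup.mp g.2⟩)
      fun g g' => by apply Subtype.ext; simp
  let ι : alternatingGroup {x // q x} →* K := ι₀.codRestrict K fun g => hK _ fun x hx => by
    by_contra hq'
    exact hx (Perm.ofSubtype_apply_of_not_mem _ hq')
  have htriv : ∀ g, ψ (ι g) = 1 := by
    intro g
    rcases hq with h2 | h5
    · haveI : Nontrivial {x // q x} := Fintype.one_lt_card_iff_nontrivial.mp (by omega)
      have h := two_mul_card_alternatingGroup (α := {x // q x})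
      rw [Fintype.card_perm, h2] at h
      haveI : Subsingleton (alternatingGroup {x // q x}) := by
        rw [← Finite.card_le_one_iff_subsingleton, Nat.card_eq_fintype_card]
        rw [Nat.factorial_two, Fintype.card_eq_nat_card] at h
        rw [Fintype.card_eq_nat_card]
        omega
      rw [Subsingleton.elim g 1, map_one, map_one]
    · have hker : commutator (alternatingGroup {x // q x}) ≤ (ψ.comp ι).ker :=
        Abelianization.commutator_subset_ker _
      rw [commutator_alternatingGroup_eq_top (by rw [Nat.card_eq_fintype_card]; omega)] at hker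
      exact hker (Subgroup.mem_top g)
  have hinv : ∀ x, q ((a : Perm α) x) ↔ q x := by
    intro x
    by_cases hx : (a : Perm α) x = x
    · rw [hx]
    · exact iff_of_true (ha _ (fun e => hx ((a : Perm α).injective e))) (ha x hx)
  let g₀ : alternatingGroup {x // q x} := ⟨Perm.subtypePerm (a : Perm α) hinv, by
    rw [Perm.mem_alternatingGroup, ← Perm.sign_ofSubtype, Perm.ofSubtype_subtypePerm hinv ha]
    exact Perm.mem_alternatingGroup.mp (a : alternatingGroup α).2⟩
  have e : ι g₀ = a := by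
    apply Subtype.ext; apply Subtype.ext
    exact Perm.ofSubtype_subtypePerm hinv ha
  rw [← e]; exact htriv g₀

variable (hZc : π.ker ≤ Subgroup.center Γ)
include hZc

theorem comm_of_eq {a b : Γ} (h : π a = π b) (g : Γ) : (a⁻¹ * b) * g = g * (a⁻¹ * b) :=
  (Subgroup.mem_center_iff.mp (hZc (by simp [MonoidHom.mem_ker, h])) g).symm

/-- A lift built from an inverting element. -/
theorem lift_cube {c g : Γ} (hc : π c * π c * π c = 1) (hg : π g * π c * (π g)⁻¹ = (π c)⁻¹) :
    π (g * c * g⁻¹ * c⁻¹) = π c ∧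
      g * c * g⁻¹ * c⁻¹ * (g * c * g⁻¹ * c⁻¹) * (g * c * g⁻¹ * c⁻¹) = 1 := by
  constructor
  · simp only [map_mul, map_inv, hg]
    have : π c * π c = (π c)⁻¹ := mul_eq_one_iff_eq_inv.mp hc
    rw [← mul_inv_rev, this, inv_inv]
  · set w := g * c * g⁻¹
    have hk : c * w ∈ π.ker := by simp [MonoidHom.mem_ker, w, hg]
    have hcm : c * (c * w) = c * w * c := (Subgroup.mem_center_iff.mp (hZc hk) c)
    have hwc : Commute w c⁻¹ := by
      have h2 : c * w = w * c := mul_left_cancel (a := c) (by rw [hcm]; group)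
      exact (Commute.inv_right h2.symm)
    have h3 : c ^ 3 ∈ π.ker := by
      simp only [MonoidHom.mem_ker, pow_succ, pow_zero, one_mul, map_mul, hc]
    have hw3 : w ^ 3 = c ^ 3 := by
      rw [conj_pow, Subgroup.mem_center_iff.mp (hZc h3) g, mul_inv_cancel_right]
    have := hwc.mul_pow 3
    rw [inv_pow, hw3, mul_inv_cancel, pow_succ, pow_two] at this
    exact this

theorem commute_of_image_eq {a b : Γ} (h : π a = π b) : Commute a b := by
  have := comm_of_eq π hZc h a
  show a * b = b * a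
  calc a * b = a * (a * (a⁻¹ * b)) := by group
    _ = a * ((a⁻¹ * b) * a) := by rw [this]
    _ = _ := by group

/-- Lifts of elements commuting with a three-cycle commute. -/
theorem commute_lift (hsurj : Function.Surjective π) (hm : m = 3 ∨ 6 ≤ m) (i : Fin m) {h c : Γ}
    (hc : π c = cycA i) (hh : Commute (π h) (cycA i)) : Commute h c := by
  classical
  set K := Subgroup.centralizer ({cycA i} : Set (alternatingGroup (Bool ⊕ Fin m)))
  let s := Function.surjInv hsurj
  have hs : ∀ a, π (s a) = a := Function.surjInv_eq hsurj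
  have hmemK : ∀ {a}, a ∈ K ↔ a * cycA i = cycA i * a := fun {a} => Subgroup.mem_centralizer_singleton_iff
  have hψ : ∀ a ∈ K, s a * c * (s a)⁻¹ * c⁻¹ ∈ Subgroup.center Γ := fun a ha => hZc (by
    simp only [MonoidHom.mem_ker, map_mul, map_inv, hs, hc, hmemK.mp ha]; group)
  let ψ : K →* Subgroup.center Γ :=
    MonoidHom.mk' (fun a => ⟨s a * c * (s a)⁻¹ * c⁻¹, hψ _ a.2⟩) fun a b => by
      apply Subtype.ext
      show s ↑(a * b) * c * (s ↑(a * b))⁻¹ * c⁻¹ =
        (s a * c * (s a)⁻¹ * c⁻¹) * (s b * c * (s b)⁻¹ * c⁻¹)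
      set ζ := (s a * s b)⁻¹ * s ↑(a * b)
      have hζ : ζ * c = c * ζ := comm_of_eq π hZc (by simp [hs]) c
      have hb := Subgroup.mem_center_iff.mp (hψ _ b.2)
      rw [show s ↑(a * b) = s a * s b * ζ from (mul_inv_cancel_left _ _).symm]
      calc s a * s b * ζ * c * (s a * s b * ζ)⁻¹ * c⁻¹
          = s a * s b * (ζ * c) * ζ⁻¹ * (s b)⁻¹ * (s a)⁻¹ * c⁻¹ := by group
        _ = s a * (s b * c * (s b)⁻¹ * c⁻¹) * c * (s a)⁻¹ * c⁻¹ := by rw [hζ]; group
        _ = (s b * c * (s b)⁻¹ * c⁻¹) * (s a * c * (s a)⁻¹ * c⁻¹) := by rw [hb]; group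
        _ = _ := (hb _).symm
  suffices h1 : ∀ a : K, ψ a = 1 by
    have := congrArg Subtype.val (h1 ⟨π h, hmemK.mpr hh⟩)
    change s (π h) * c * (s (π h))⁻¹ * c⁻¹ = 1 at this
    have hh' : Commute (s (π h)) c :=
      mul_inv_eq_iff_eq_mul.mp (by simpa using mul_inv_eq_iff_eq_mul.mp this)
    have hd : ((s (π h))⁻¹ * h) * c = c * ((s (π h))⁻¹ * h) := comm_of_eq π hZc (hs _) c
    simpa using hh'.mul_left hd
  have hcK : cycA i ∈ K := hmemK.mpr rfl
  have hψc : ψ ⟨_, hcK⟩ = 1 := by
    apply Subtype.ext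
    show s (cycA i) * c * (s (cycA i))⁻¹ * c⁻¹ = 1
    rw [(commute_of_image_eq π hZc (show π (s (cycA i)) = π c by rw [hs, hc])).eq]; group
  -- the part fixing the three points
  let T : Bool ⊕ Fin m → Prop := fun x => ¬(x = Sum.inl false ∨ x = Sum.inl true ∨ x = Sum.inr i)
  have hfix : ∀ a : K, (a : Perm (Bool ⊕ Fin m)) (Sum.inl false) = Sum.inl false → ψ a = 1 := by
    intro a ha
    set f := (cycA i : Perm (Bool ⊕ Fin m))
    have hcom : ∀ x, (a : Perm (Bool ⊕ Fin m)) (f x) = f ((a : Perm (Bool ⊕ Fin m)) x) := fun x =>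
      congrArg (fun g : alternatingGroup (Bool ⊕ Fin m) => (g : Perm (Bool ⊕ Fin m)) x) (hmemK.mp a.2)
    have f1 : f (Sum.inl false) = Sum.inl true := by simp [f, cycA, cyc3, swap_apply_def]
    have f2 : f (Sum.inl true) = Sum.inr i := by simp [f, cycA, cyc3, swap_apply_def]
    have aT : (a : Perm (Bool ⊕ Fin m)) (Sum.inl true) = Sum.inl true := by rw [← f1, hcom, ha]
    have aI : (a : Perm (Bool ⊕ Fin m)) (Sum.inr i) = Sum.inr i := by rw [← f2, hcom, aT]
    have hsupp : ∀ x, (a : Perm (Bool ⊕ Fin m)) x ≠ x → T x := by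
      rintro x hx (rfl | rfl | rfl)
      exacts [hx ha, hx aT, hx aI]
    letI : CommGroup (Subgroup.center Γ) :=
      { (Subgroup.center Γ).toGroup with
        mul_comm := fun u v => Subtype.ext (Subgroup.mem_center_iff.mp v.2 u) }
    refine hom_trivial_of_support K T ?_ (fun g hg => hmemK.mpr ?_) ψ a hsupp
    · have hcard : Fintype.card {x // T x} = m - 1 := by
        rw [Fintype.card_subtype_compl, Fintype.card_sum, Fintype.card_bool, Fintype.card_fin,
          Fintype.card_subtype]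
        rw [show (Finset.univ.filter fun x : Bool ⊕ Fin m =>
            x = Sum.inl false ∨ x = Sum.inl true ∨ x = Sum.inr i) =
            {Sum.inl false, Sum.inl true, Sum.inr i} by ext; simp]
        rw [Finset.card_insert_of_notMem (by simp), Finset.card_pair (by simp)]
        have := i.2
        omega
      omega
    · have hd : Perm.Disjoint (g : Perm (Bool ⊕ Fin m)) f := by
        intro x
        by_cases hx : (g : Perm (Bool ⊕ Fin m)) x = x
        · exact Or.inl hx
        · have hy := hg x hx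
          simp only [T, not_or] at hy
          exact Or.inr (by simp [f, cycA, cyc3, swap_apply_def, hy.1, hy.2.1, hy.2.2])
      exact Subtype.ext hd.commute.eq
  intro a
  set f := (cycA i : Perm (Bool ⊕ Fin m))
  set F : Bool ⊕ Fin m := Sum.inl false
  have hmoved : f ((a : Perm (Bool ⊕ Fin m)) F) ≠ (a : Perm (Bool ⊕ Fin m)) F := by
    rw [← show (a : Perm (Bool ⊕ Fin m)) (f F) = f ((a : Perm (Bool ⊕ Fin m)) F) from
      congrArg (fun g : alternatingGroup (Bool ⊕ Fin m) => (g : Perm (Bool ⊕ Fin m)) F) (hmemK.mp a.2)]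
    intro e
    have := (a : Perm (Bool ⊕ Fin m)).injective e
    simp [f, F, cycA, cyc3, swap_apply_def] at this
  obtain ⟨j, hj⟩ : ∃ j : ℕ, (f ^ j) F = (a : Perm (Bool ⊕ Fin m)) F := by
    have f1 : f F = Sum.inl true := by simp [f, F, cycA, cyc3, swap_apply_def]
    have f2 : f (Sum.inl true) = Sum.inr i := by simp [f, cycA, cyc3, swap_apply_def]
    rcases hx : (a : Perm (Bool ⊕ Fin m)) F with (_ | _) | k
    · exact ⟨0, rfl⟩
    · exact ⟨1, by rw [pow_one, f1]⟩
    · rcases eq_or_ne k i with rfl | hk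
      · exact ⟨2, by rw [pow_two, Perm.mul_apply, f1, f2]⟩
      · rw [hx] at hmoved
        simp [f, cycA, cyc3, swap_apply_def, hk] at hmoved
  set b : K := (⟨_, hcK⟩ : K) ^ j
  have hb : ψ b = 1 := by rw [map_pow, hψc, one_pow]
  have hval : ((b⁻¹ * a : K) : Perm (Bool ⊕ Fin m)) F = F := by
    simp [b, ← hj, f]
  have := hfix _ hval
  rwa [map_mul, map_inv, hb, inv_one, one_mul] at this

/-- The canonical lifts of the standard three-cycles. -/
def IsLift (i : Fin m) (y : Γ) : Prop :=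
  ∃ g c : Γ, π c = cycA i ∧ π g * π c * (π g)⁻¹ = (π c)⁻¹ ∧ y = g * c * g⁻¹ * c⁻¹

theorem lift_unique (hsurj : Function.Surjective π) (hm : m = 3 ∨ 6 ≤ m) {i : Fin m} {y y' : Γ}
    (h : IsLift π i y) (h' : IsLift π i y') : y = y' := by
  obtain ⟨g, c, hc, hg, rfl⟩ := h
  obtain ⟨g', c', hc', hg', rfl⟩ := h'
  set k := g⁻¹ * g'
  set ζ := c⁻¹ * c'
  have hζ : ∀ x, ζ * x = x * ζ := comm_of_eq π hZc (hc.trans hc'.symm)
  have hk : Commute k c := commute_lift π hZc hsurj hm i hc (by
    show π k * cycA i = cycA i * π k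
    rw [hc] at hg; rw [hc'] at hg'
    have e1 : π g * cycA i * (π g)⁻¹ = π g' * cycA i * (π g')⁻¹ := hg.trans hg'.symm
    simp only [k, map_mul, map_inv]
    calc (π g)⁻¹ * π g' * cycA i = (π g)⁻¹ * (π g' * cycA i * (π g')⁻¹) * π g' := by group
      _ = _ := by rw [← e1]; group)
  rw [show g' = g * k by simp [k], show c' = c * ζ by simp [ζ]]
  have hcd : g * k * (c * ζ) * (g * k)⁻¹ = g * c * g⁻¹ * ζ := by
    calc g * k * (c * ζ) * (g * k)⁻¹ = g * (k * c) * (ζ * (k⁻¹ * g⁻¹)) := by group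
      _ = g * c * g⁻¹ * ζ := by rw [hk.eq, hζ]; group
  rw [hcd]; group

theorem lift_conj {i j : Fin m} {y : Γ} (h : IsLift π i y) {x : Γ}
    (hx : π x * cycA i * (π x)⁻¹ = cycA j) : IsLift π j (x * y * x⁻¹) := by
  obtain ⟨g, c, hc, hg, rfl⟩ := h
  refine ⟨x * g * x⁻¹, x * c * x⁻¹, by simp [hc, hx], ?_, by group⟩
  simp only [map_mul, map_inv]
  calc π x * π g * (π x)⁻¹ * (π x * π c * (π x)⁻¹) * (π x * π g * (π x)⁻¹)⁻¹
      = π x * (π g * π c * (π g)⁻¹) * (π x)⁻¹ := by group
    _ = _ := by rw [hg]; group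

theorem lift_conj_inv {i j : Fin m} {y : Γ} (h : IsLift π i y) {x : Γ}
    (hx : π x * cycA i * (π x)⁻¹ = (cycA j)⁻¹) : IsLift π j (x * y * x⁻¹)⁻¹ := by
  obtain ⟨g, c, hc, hg, rfl⟩ := h
  have hcm : Commute c (g * c⁻¹ * g⁻¹) := by
    refine commute_of_image_eq π hZc ?_
    rw [map_mul, map_mul, map_inv, map_inv, ← inv_inv (π c)]
    conv_lhs => rw [← hg]
    group
  refine ⟨x * g * x⁻¹, (x * c * x⁻¹)⁻¹, by rw [map_inv, map_mul, map_mul, map_inv, hc, hx, inv_inv], ?_, ?_⟩
  · simp only [map_mul, map_inv]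
    calc π x * π g * (π x)⁻¹ * (π x * π c * (π x)⁻¹)⁻¹ * (π x * π g * (π x)⁻¹)⁻¹
        = π x * (π g * π c * (π g)⁻¹)⁻¹ * (π x)⁻¹ := by group
      _ = _ := by rw [hg]; group
  · calc (x * (g * c * g⁻¹ * c⁻¹) * x⁻¹)⁻¹ = x * (c * (g * c⁻¹ * g⁻¹)) * x⁻¹ := by group
      _ = _ := by rw [hcm.eq]; group

theorem card_le_two [Finite Γ] (hsurj : Function.Surjective π) (hZd : π.ker ≤ commutator Γ)
    (hm : m = 3 ∨ 6 ≤ m) : Nat.card π.ker ≤ 2 := by
  classical
  have lifts : ∀ (σ : Perm (Bool ⊕ Fin m)), Perm.sign σ = 1 → ∃ x : Γ, (π x : Perm (Bool ⊕ Fin m)) = σ :=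
    fun σ hσ => by
      obtain ⟨x, hx⟩ := hsurj ⟨σ, Perm.mem_alternatingGroup.mpr hσ⟩
      exact ⟨x, by rw [hx]⟩
  have third : ∀ i j : Fin m, ∃ k, k ≠ i ∧ k ≠ j := fun i j => by
    have : ({i, j} : Finset (Fin m)) ≠ Finset.univ := fun e => by
      have := congrArg Finset.card e
      rw [Finset.card_univ, Fintype.card_fin] at this
      have := Finset.card_le_two (a := i) (b := j)
      omega
    obtain ⟨k, hk⟩ := not_forall.mp fun h => this (Finset.eq_univ_of_forall h)
    simp only [Finset.mem_insert, Finset.mem_singleton, not_or] at hk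
    exact ⟨k, hk⟩
  have flip : ∀ k l : Fin m, k ≠ l → ∃ x : Γ, ∀ i j, (swap k l) i = j →
      π x * cycA i * (π x)⁻¹ = (cycA j)⁻¹ := fun k l hkl => by
    obtain ⟨x, hx⟩ := lifts (Equiv.sumCongr (swap false true) (swap k l)) (by
      rw [Perm.sign_sumCongr, Perm.sign_swap (by simp), Perm.sign_swap hkl]; rfl)
    refine ⟨x, fun i j hij => Subtype.ext ?_⟩
    simp only [Subgroup.coe_mul, Subgroup.coe_inv, hx]
    exact cyc3_conj_swap _ (fun b => by cases b <;> simp) i j (by simp [hij])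
  have hex : ∀ i : Fin m, ∃ y, IsLift π i y := by
    intro i
    obtain ⟨k, hk, -⟩ := third i i
    obtain ⟨l, hl, hlk⟩ := third i k
    obtain ⟨x, hx⟩ := flip k l hlk.symm
    obtain ⟨c, hc⟩ := hsurj (cycA i)
    exact ⟨_, x, c, hc, by rw [hc]; exact hx i i (swap_apply_of_ne_of_ne hk.symm hl.symm), rfl⟩
  choose y hy using hex
  have spec : ∀ i, π (y i) = cycA i ∧ y i * y i * y i = 1 := fun i => by
    obtain ⟨g, c, hc, hg, e⟩ := hy i
    have := lift_cube π hZc (show π c * π c * π c = 1 by rw [hc]; exact cycA_cube i) hg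
    rw [← e, hc] at this
    exact this
  let Z : Fin m → Fin m → Γ := fun i j => y i * y j * (y i * y j)
  have hZk : ∀ i j, i ≠ j → Z i j ∈ π.ker := fun i j hij => by
    simp only [Z, MonoidHom.mem_ker, map_mul, (spec i).1, (spec j).1, cycA_pair i j hij]
  have cen : ∀ i j, i ≠ j → ∀ x, x * Z i j * x⁻¹ = Z i j := fun i j hij x => by
    rw [Subgroup.mem_center_iff.mp (hZc (hZk i j hij)) x, mul_inv_cancel_right]
  have symm' : ∀ i j, i ≠ j → Z j i = Z i j := fun i j hij => by
    conv_rhs => rw [← cen i j hij (y j)]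
    simp only [Z]; group
  have inv' : ∀ i j, i ≠ j → (Z i j)⁻¹ = Z i j := by
    intro i j hij
    obtain ⟨x, hx⟩ := flip i j hij
    have a := lift_unique π hZc hsurj hm (lift_conj_inv π hZc (hy i) (hx i j (swap_apply_left i j))) (hy j)
    have b := lift_unique π hZc hsurj hm (lift_conj_inv π hZc (hy j) (hx j i (swap_apply_right i j))) (hy i)
    have := cen i j hij x
    calc (Z i j)⁻¹ = (x * Z i j * x⁻¹)⁻¹ := by rw [this]
      _ = (x * y j * x⁻¹)⁻¹ * (x * y i * x⁻¹)⁻¹ * ((x * y j * x⁻¹)⁻¹ * (x * y i * x⁻¹)⁻¹) := by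
          simp only [Z]; group
      _ = Z i j := by rw [a, b]
  have move : ∀ (σ : Perm (Fin m)), Perm.sign σ = 1 → ∀ i j, i ≠ j → Z (σ i) (σ j) = Z i j := by
    intro σ hσ i j hij
    obtain ⟨x, hx⟩ := lifts (Equiv.sumCongr (1 : Perm Bool) σ) (by
      rw [Perm.sign_sumCongr, hσ, map_one, one_mul])
    have hc : ∀ i, π x * cycA i * (π x)⁻¹ = cycA (σ i) := fun i => Subtype.ext (by
      simp only [Subgroup.coe_mul, Subgroup.coe_inv, hx]
      exact cyc3_conj _ (fun b => by simp) i _ (by simp))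
    have a := lift_unique π hZc hsurj hm (lift_conj π hZc (hy i) (hc i)) (hy (σ i))
    have b := lift_unique π hZc hsurj hm (lift_conj π hZc (hy j) (hc j)) (hy (σ j))
    rw [← cen i j hij x]
    simp only [Z, ← a, ← b]; group
  have hcst : ∀ i j k l, i ≠ j → k ≠ l → Z i j = Z k l := by
    intro i j k l hij hkl
    let σ₁ := swap i k
    let σ := swap (σ₁ j) l * σ₁
    have hk' : σ₁ j ≠ k := by
      rw [show k = σ₁ i from (swap_apply_left i k).symm]
      exact fun e => hij ((σ₁.injective e).symm)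
    have si : σ i = k := by
      simp only [σ, Perm.mul_apply, σ₁, swap_apply_left]
      exact swap_apply_of_ne_of_ne hk'.symm hkl
    have sj : σ j = l := by simp [σ]
    rcases Int.units_eq_one_or (Perm.sign σ) with h | h
    · rw [← move σ h i j hij, si, sj]
    · have h' : Perm.sign (swap k l * σ) = 1 := by rw [map_mul, h, Perm.sign_swap hkl]; rfl
      have e1 : (swap k l * σ) i = l := by rw [Perm.mul_apply, si, swap_apply_left]
      have e2 : (swap k l * σ) j = k := by rw [Perm.mul_apply, sj, swap_apply_right]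
      rw [← move _ h' i j hij, e1, e2, symm' k l hkl]
  have h01 : (⟨0, by omega⟩ : Fin m) ≠ ⟨1, by omega⟩ := by simp
  refine bound π hsurj hZc hZd (by omega) y (fun i => (spec i).1) (fun i => (spec i).2) _
    (hZk _ _ h01) (inv_eq_iff_mul_eq_one.mp (inv' _ _ h01))
    (fun i j hij => hcst i j _ _ hij h01)

theorem card_le_two_four [Finite Γ] (hsurj : Function.Surjective π) (hZd : π.ker ≤ commutator Γ)
    (hm : m = 2) : Nat.card π.ker ≤ 2 := by
  classical
  subst hm
  haveI : Fact (Nat.Prime 3) := ⟨Nat.prime_three⟩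
  have hA : Nat.card (alternatingGroup (Bool ⊕ Fin 2)) = 12 := by
    haveI : Nontrivial (Bool ⊕ Fin 2) := ⟨⟨Sum.inl true, Sum.inl false, by simp⟩⟩
    have := two_mul_card_alternatingGroup (α := Bool ⊕ Fin 2)
    rw [Fintype.card_perm, Fintype.card_sum, Fintype.card_bool, Fintype.card_fin,
      Fintype.card_eq_nat_card] at this
    rw [show Nat.factorial (2 + 2) = 24 from rfl] at this
    omega
  -- no three part
  obtain ⟨P⟩ : Nonempty (Sylow 3 Γ) := inferInstance
  have hab : IsMulCommutative (P : Subgroup Γ) := by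
    set Q := (P : Subgroup Γ).map π
    obtain ⟨k, hk⟩ := IsPGroup.iff_card.mp (P.isPGroup'.map π)
    have hd : (3 : ℕ) ^ k ∣ 12 := hk ▸ hA ▸ Subgroup.card_subgroup_dvd_card Q
    have hk1 : k ≤ 1 := by
      by_contra h
      have := Nat.dvd_trans (pow_dvd_pow 3 (show 2 ≤ k by omega)) hd
      norm_num at this
    haveI : IsCyclic Q := by
      interval_cases k
      · haveI : Subsingleton Q := Finite.card_le_one_iff_subsingleton.mp (by rw [hk]; norm_num)
        exact isCyclic_of_subsingleton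
      · exact isCyclic_of_prime_card (p := 3) (by rw [hk]; norm_num)
    obtain ⟨q, hgen⟩ := IsCyclic.exists_generator (α := Q)
    obtain ⟨c, -, hcq⟩ := q.2
    have pow : ∀ a ∈ (P : Subgroup Γ), ∃ n : ℤ, π (c ^ n) = π a := fun a ha => by
      obtain ⟨n, hn⟩ := hgen ⟨π a, a, ha, rfl⟩
      exact ⟨n, by rw [map_zpow, hcq]; simpa using congrArg Subtype.val hn⟩
    refine ⟨⟨fun a b => Subtype.ext ?_⟩⟩
    obtain ⟨n, hn⟩ := pow a a.2
    obtain ⟨k, hk⟩ := pow b b.2
    show (a : Γ) * b = b * a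
    have ha := comm_of_eq π hZc hn
    have hb := comm_of_eq π hZc hk
    have h1 : Commute (c ^ n) (b : Γ) := by
      have := (Commute.zpow_zpow (Commute.refl c) n k).mul_right
        (show Commute (c ^ n) ((c ^ k)⁻¹ * (b : Γ)) from (hb _).symm)
      rwa [mul_inv_cancel_left] at this
    have := Commute.mul_left h1 (show Commute ((c ^ n)⁻¹ * (a : Γ)) b from ha b)
    rwa [mul_inv_cancel_left] at this
  have h3 : ¬ 3 ∣ Nat.card π.ker := fun h => by
    obtain ⟨⟨x, hx⟩, hxo⟩ := exists_prime_orderOf_dvd_card' 3 h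
    rw [Subgroup.orderOf_mk] at hxo
    obtain ⟨Q, hQ⟩ := (IsPGroup.of_card (n := 1) (show Nat.card (Subgroup.zpowers x) = 3 ^ 1 by
      rw [Nat.card_zpowers, pow_one, hxo])).exists_le_sylow
    obtain ⟨g, hg⟩ := MulAction.exists_smul_eq Γ Q P
    have hxP : x ∈ (P : Subgroup Γ) := by
      rw [← hg, Sylow.coe_subgroup_smul, Subgroup.mem_pointwise_smul_iff_inv_smul_mem]
      simp only [MulAut.smul_def, MulAut.conj_inv_apply]
      rw [Subgroup.mem_center_iff.mp (hZc hx) g⁻¹, mul_assoc, inv_mul_cancel, mul_one]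
      exact hQ (Subgroup.mem_zpowers x)
    have := Cfsg.Agent.S0088.result (P : Subgroup Γ) hab P.card_coprime_index
    have hp1 : x ∈ (P : Subgroup Γ) ⊓ commutator Γ ⊓ Subgroup.center Γ := ⟨⟨hxP, hZd hx⟩, hZc hx⟩
    rw [this, Subgroup.mem_bot] at hp1
    subst hp1
    simp at hxo
  set d := Nat.card π.ker
  have hd2 : d * d % 3 = 1 := by
    have : d % 3 = 1 ∨ d % 3 = 2 := by omega
    rcases this with h | h <;> simp [Nat.mul_mod, h]
  have hker : ∀ x ∈ π.ker, x ^ d = 1 := fun x hx =>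
    congrArg Subtype.val (pow_card_eq_one' (x := (⟨x, hx⟩ : π.ker)))
  have hex : ∀ i : Fin 2, ∃ y, π y = cycA i ∧ y * y * y = 1 := by
    intro i
    obtain ⟨c, hc⟩ := hsurj (cycA i)
    have hc3 : cycA i ^ 3 = 1 := by rw [pow_succ, pow_two]; exact cycA_cube i
    refine ⟨c ^ (d * d), ?_, ?_⟩
    · rw [map_pow, hc, ← Nat.div_add_mod (d * d) 3, hd2, pow_succ, pow_mul, hc3, one_pow, one_mul]

    · rw [← pow_add, ← pow_add, show d * d + d * d + d * d = 3 * d * d by ring, pow_mul, pow_mul,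
        hker (c ^ 3) (by simp [MonoidHom.mem_ker, hc, hc3]), one_pow]
  choose y hy h3y using hex
  set a := y 0
  set b := y 1
  set z := a * b * (a * b)
  have hz : z ∈ π.ker := by
    simp only [z, a, b, MonoidHom.mem_ker, map_mul, hy]
    exact cycA_pair _ _ (show (0 : Fin 2) ≠ 1 by decide)
  have hzc := Subgroup.mem_center_iff.mp (hZc hz)
  have hcen : ∀ x, x * z * x⁻¹ = z := fun x => by rw [hzc x, mul_inv_cancel_right]
  have hv : b * a * (b * a) = z := by
    calc b * a * (b * a) = b * z * b⁻¹ := by simp only [z]; group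
      _ = z := hcen b
  have hw : a * (a * b) * a⁻¹ * (a * (a * b) * a⁻¹) = z := by
    calc a * (a * b) * a⁻¹ * (a * (a * b) * a⁻¹) = a * z * a⁻¹ := by simp only [z]; group
      _ = z := hcen a
  have hb2 : b * b = z⁻¹ * (a * b * a) := by
    have : b * b = b⁻¹ := mul_eq_one_iff_eq_inv.mp (h3y 1)
    rw [this]; simp only [z]; group
  have huv : a * b * (b * a) = z⁻¹ * (a * (a * b) * a⁻¹) := by
    have ha2 : a⁻¹ = a * a := (mul_eq_one_iff_eq_inv.mp (h3y 0)).symm
    calc a * b * (b * a) = a * (b * b) * a := by group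
      _ = a * z⁻¹ * (a * b * (a * a)) := by rw [hb2]; group
      _ = z⁻¹ * (a * (a * b * (a * a))) := by
          rw [show a * z⁻¹ = z⁻¹ * a by rw [eq_inv_mul_iff_mul_eq, ← mul_assoc, ← hzc a,
            mul_inv_cancel_right]]
          group
      _ = _ := by rw [← ha2]; group
  set u := a * b
  set v := b * a
  set f := v * u * v⁻¹ * u⁻¹
  have hfk : f ∈ π.ker := by
    have hcomm : (cycA (1 : Fin 2) * cycA 0) * (cycA 0 * cycA 1) =
        (cycA 0 * cycA 1) * (cycA (1 : Fin 2) * cycA 0) := by decide +kernel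
    simp only [f, u, v, a, b, MonoidHom.mem_ker, map_mul, map_inv, hy]
    rw [hcomm]; group
  have hfc := Subgroup.mem_center_iff.mp (hZc hfk)
  have hvu : v * u = f * (u * v) := by simp only [f]; group
  have hf2 : f * f = 1 := by
    have e1 : v * u * v⁻¹ = f * u := by simp only [f]; group
    have e2 : v * (u * u) * v⁻¹ = f * f * (u * u) := by
      calc v * (u * u) * v⁻¹ = (v * u * v⁻¹) * (v * u * v⁻¹) := by group
        _ = f * (u * f) * u := by rw [e1]; group
        _ = _ := by rw [hfc u]; group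
    have e3 : u * u = z := rfl
    rw [e3, hcen v] at e2
    exact mul_eq_right.mp e2.symm
  have hz6 : z ^ 6 = 1 := by
    have e1 : u * v * (u * v) = z⁻¹ := by
      rw [huv]
      calc z⁻¹ * (a * u * a⁻¹) * (z⁻¹ * (a * u * a⁻¹))
          = z⁻¹ * ((a * u * a⁻¹) * z⁻¹) * (a * u * a⁻¹) := by group
        _ = z⁻¹ * (z⁻¹ * (a * u * a⁻¹)) * (a * u * a⁻¹) := by
            rw [show (a * u * a⁻¹) * z⁻¹ = z⁻¹ * (a * u * a⁻¹) from
              (Commute.inv_right (hzc _)).eq]
        _ = z⁻¹ * z⁻¹ * z := by rw [← hw]; group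
        _ = _ := by group
    have e2 : u * v * (u * v) = f * (z * z) := by
      calc u * v * (u * v) = u * (v * u) * v := by group
        _ = (u * f) * u * v * v := by rw [hvu]; group
        _ = f * ((u * u) * (v * v)) := by rw [hfc u]; group
        _ = _ := by rw [hv]
    have e3 : f = (z * z * z)⁻¹ := by
      rw [eq_inv_iff_mul_eq_one, ← mul_assoc, ← e2.symm.trans e1 |>.symm |> fun h => (h : z⁻¹ = f * (z * z))]
      group
    rw [e3] at hf2
    calc z ^ 6 = ((z * z * z)⁻¹ * (z * z * z)⁻¹)⁻¹ := by group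
      _ = 1 := by rw [hf2, inv_one]
  have hz2 : z * z = 1 := by
    have h6 : orderOf z ∣ 6 := orderOf_dvd_of_pow_eq_one hz6
    have hd : orderOf z ∣ d := orderOf_dvd_of_pow_eq_one (hker z hz)
    have hcop : Nat.Coprime (orderOf z) 3 :=
      Nat.Coprime.coprime_dvd_left hd ((Nat.prime_three.coprime_iff_not_dvd.mpr h3).symm)
    have : orderOf z ∣ 2 := hcop.dvd_of_dvd_mul_right (show orderOf z ∣ 2 * 3 from h6)
    rw [← pow_two]; exact orderOf_dvd_iff_pow_eq_one.mp this
  refine bound π hsurj hZc hZd (by norm_num) y hy h3y z hz hz2 fun i j hij => ?_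
  fin_cases i <;> fin_cases j <;> first | exact absurd rfl hij | rfl | exact hv

end CfsgLib.AltPres.Mult
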