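import Cfsg.Agent.Lib.SLPres.Odd
import Cfsg.Agent.Lib.AltPres.Carmichael

/-!
# A Carmichael family on a projective line, and the model in permutations
-/

set_option autoImplicit false

namespace CfsgLib.AltPres

open CfsgLib.SLPres Equiv

variable {p : ℕ} [Fact p.Prime]

/-- The family indexed by the projective line. -/
def lineFam {G : Type*} [Group G] (φ : ZMod p → G) (w y : G) : Option (ZMod p) → G :=
  fun i => i.elim y fun t => φ t * (w * y * w⁻¹) * (φ t)⁻¹

/-- The hypotheses giving a family on `p + 1` indices. -/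
structure LineData {G : Type*} [Group G] (u h w y : G) (φ : ZMod p → G) (μ : ZMod p) : Prop where
  odd : OddData G u h w φ μ 0 0 (-1)
  mu_ne : μ ≠ 0
  mu_gen : ∀ t : ZMod p, t ≠ 0 → ∃ i : ℕ, t = μ ^ i
  cube : y * y * y = 1
  fix_u : u * y * u⁻¹ = y
  fix_h : h * y * h⁻¹ = y
  pair : y * (w * y * w⁻¹) * (y * (w * y * w⁻¹)) = 1

namespace LineData

variable {G : Type*} [Group G] {u h w y : G} {φ : ZMod p → G} {μ : ZMod p}
  (D : LineData u h w y φ μ)

include D

theorem phi_pow (t : ZMod p) : φ t = u ^ t.val := by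
  rw [← D.odd.root.one, D.odd.root.pow, mul_one, ZMod.natCast_zmod_val]

theorem phi_fix (t : ZMod p) : φ t * y * (φ t)⁻¹ = y := by
  have hc : Commute u y := mul_inv_eq_iff_eq_mul.mp D.fix_u
  rw [D.phi_pow, (hc.pow_left _).eq, mul_inv_cancel_right]

theorem w_inv : w⁻¹ = w := inv_eq_of_mul_eq_one_right (by rw [D.odd.sq, zpow_zero])

theorem w_phi (t : ZMod p) (ht : t ≠ 0) :
    ∃ (k : ℤ) (d : ZMod p), w * φ t * w = φ (-t⁻¹) * h ^ k * w * φ d := by
  obtain ⟨i, rfl⟩ := D.mu_gen t ht
  have hμ := D.mu_ne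
  rcases Nat.even_or_odd' i with ⟨j, rfl | rfl⟩
  · have := rel_orbit φ h w (μ * μ) (mul_ne_zero hμ hμ) D.odd.root.conj D.odd.inv D.odd.rel_one (j : ℤ)
    rw [mul_one, zpow_natCast, ← pow_two, ← pow_mul] at this
    rw [show (μ ^ 2) ^ (-(j : ℤ)) * -1 = -(μ ^ (2 * j))⁻¹ by
      rw [zpow_neg, zpow_natCast, ← pow_mul, mul_neg_one]] at this
    exact ⟨_, _, this⟩
  · have := rel_orbit φ h w (μ * μ) (mul_ne_zero hμ hμ) D.odd.root.conj D.odd.inv D.odd.rel_gen (j : ℤ)
    rw [zpow_natCast, ← pow_two, ← pow_mul, ← pow_succ] at this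
    rw [show (μ ^ 2) ^ (-(j : ℤ)) * -μ⁻¹ = -(μ ^ (2 * j + 1))⁻¹ by
      rw [zpow_neg, zpow_natCast, ← pow_mul, mul_neg, ← mul_inv, ← pow_succ]] at this
    exact ⟨_, _, this⟩

theorem equivar_u (t : ZMod p) :
    (φ t * y * (φ t)⁻¹ = y) ∧
      ∀ s, φ t * lineFam φ w y (some s) * (φ t)⁻¹ = lineFam φ w y (some (t + s)) := by
  refine ⟨D.phi_fix t, fun s => ?_⟩
  simp only [lineFam, Option.elim_some, D.odd.root.add]
  group

theorem h_zpow_fix (k : ℤ) : h ^ k * y * (h ^ k)⁻¹ = y := by
  have hc : Commute h y := mul_inv_eq_iff_eq_mul.mp D.fix_h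
  rw [(hc.zpow_left k).eq, mul_inv_cancel_right]

theorem h_zpow_zero (k : ℤ) : h ^ k * (w * y * w⁻¹) * (h ^ k)⁻¹ = w * y * w⁻¹ := by
  have e := zpow_conj_inverted D.odd.inv (-k)
  rw [neg_neg] at e
  calc h ^ k * (w * y * w⁻¹) * (h ^ k)⁻¹ = (h ^ k * w) * y * (h ^ k * w)⁻¹ := by group
    _ = w * (h ^ (-k) * y * (h ^ (-k))⁻¹) * w⁻¹ := by rw [← e]; group
    _ = _ := by rw [D.h_zpow_fix]

theorem h_some (s : ZMod p) :
    h * lineFam φ w y (some s) * h⁻¹ = lineFam φ w y (some (μ * μ * s)) := by
  simp only [lineFam, Option.elim_some, ← D.odd.root.conj s]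
  have := D.h_zpow_zero 1
  rw [zpow_one] at this
  calc h * (φ s * (w * y * w⁻¹) * (φ s)⁻¹) * h⁻¹
      = (h * φ s * h⁻¹) * (h * (w * y * w⁻¹) * h⁻¹) * (h * φ s * h⁻¹)⁻¹ := by group
    _ = _ := by rw [this]

theorem w_some (s : ZMod p) (hs : s ≠ 0) :
    w * lineFam φ w y (some s) * w⁻¹ = lineFam φ w y (some (-s⁻¹)) := by
  obtain ⟨k, d, hk⟩ := D.w_phi s hs
  simp only [lineFam, Option.elim_some]
  calc w * (φ s * (w * y * w⁻¹) * (φ s)⁻¹) * w⁻¹ = (w * φ s * w) * y * (w * φ s * w)⁻¹ := by group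
    _ = φ (-s⁻¹) * (h ^ k * (w * (φ d * y * (φ d)⁻¹) * w⁻¹) * (h ^ k)⁻¹) * (φ (-s⁻¹))⁻¹ := by
        rw [hk]; group
    _ = _ := by rw [D.phi_fix, D.h_zpow_zero]

theorem fam_cube (i : Option (ZMod p)) :
    lineFam φ w y i * lineFam φ w y i * lineFam φ w y i = 1 := by
  cases i with
  | none => exact D.cube
  | some t =>
    simp only [lineFam, Option.elim_some]
    calc _ = φ t * (w * (y * y * y) * w⁻¹) * (φ t)⁻¹ := by group
      _ = 1 := by rw [D.cube]; group

theorem fam_pair (i j : Option (ZMod p)) (hij : i ≠ j) :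
    lineFam φ w y i * lineFam φ w y j * (lineFam φ w y i * lineFam φ w y j) = 1 := by
  have hconj : ∀ (g a b : G), a * b * (a * b) = 1 →
      g * a * g⁻¹ * (g * b * g⁻¹) * (g * a * g⁻¹ * (g * b * g⁻¹)) = 1 := fun g a b e => by
    calc _ = g * (a * b * (a * b)) * g⁻¹ := by group
      _ = 1 := by rw [e]; group
  have hcomm : ∀ a b : G, a * b * (a * b) = 1 → b * a * (b * a) = 1 := fun a b e => by
    calc b * a * (b * a) = a⁻¹ * (a * b * (a * b)) * a := by group
      _ = 1 := by rw [e]; group
  have h0 : lineFam φ w y (some 0) = w * y * w⁻¹ := by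
    simp [lineFam, D.odd.root.zero]
  -- infinity against a finite index
  have hinf : ∀ t, lineFam φ w y none * lineFam φ w y (some t) *
      (lineFam φ w y none * lineFam φ w y (some t)) = 1 := by
    intro t
    have := hconj (φ t) y _ D.pair
    rw [(D.equivar_u t).1, ← h0, (D.equivar_u t).2, add_zero] at this
    exact this
  have hzero : ∀ t, t ≠ 0 → lineFam φ w y (some 0) * lineFam φ w y (some t) *
      (lineFam φ w y (some 0) * lineFam φ w y (some t)) = 1 := by
    intro t ht
    have := hconj w y _ (hinf (-t⁻¹))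
    rw [show w * y * w⁻¹ = lineFam φ w y (some 0) from h0.symm,
      D.w_some _ (by simpa using ht)] at this
    simpa using this
  rcases i with _ | s <;> rcases j with _ | t
  · exact absurd rfl hij
  · exact hinf t
  · exact hcomm _ _ (hinf s)
  · have hst : t - s ≠ 0 := sub_ne_zero.mpr fun e => hij (by rw [e])
    have := hconj (φ s) _ _ (hzero _ hst)
    rwa [(D.equivar_u s).2, (D.equivar_u s).2, add_zero, add_sub_cancel] at this

/-- Once `u` is a product of the family, so is every generator. -/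
theorem mem_closure (hu : u ∈ Subgroup.closure (Set.range (lineFam φ w y))) :
    h ∈ Subgroup.closure (Set.range (lineFam φ w y)) ∧
      w ∈ Subgroup.closure (Set.range (lineFam φ w y)) ∧
      y ∈ Subgroup.closure (Set.range (lineFam φ w y)) := by
  set N := Subgroup.closure (Set.range (lineFam φ w y))
  have hφ : ∀ t, φ t ∈ N := fun t => by rw [D.phi_pow]; exact pow_mem hu _
  have hw : ∀ x ∈ N, w * x * w ∈ N := by
    have hle : N ≤ N.comap (MulAut.conj w).toMonoidHom := by
      rw [Subgroup.closure_le]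
      rintro _ ⟨i, rfl⟩
      show w * lineFam φ w y i * w⁻¹ ∈ N
      rcases i with _ | s
      · refine Subgroup.subset_closure ⟨some 0, ?_⟩
        simp [lineFam, D.odd.root.zero]
      · by_cases hs : s = 0
        · subst hs
          refine Subgroup.subset_closure ⟨none, ?_⟩
          simp only [lineFam, Option.elim_none, Option.elim_some, D.odd.root.zero, one_mul, inv_one,
            mul_one, D.w_inv]
          have : w * w = 1 := by rw [D.odd.sq, zpow_zero]
          calc y = (w * w) * y * (w * w) := by rw [this, one_mul, mul_one]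
            _ = _ := by group
        · rw [D.w_some s hs]; exact Subgroup.subset_closure ⟨_, rfl⟩
    intro x hx
    have := hle hx
    rw [Subgroup.mem_comap] at this
    change w * x * w⁻¹ ∈ N at this
    rwa [D.w_inv] at this
  have hwN : w ∈ N := by
    have h1 := hw _ (hφ 1)
    rw [D.odd.rel_one, zpow_zero, mul_one] at h1
    have h2 := mul_mem (mul_mem (inv_mem (hφ (-1))) h1) (inv_mem (hφ (-1)))
    simpa [mul_assoc] using h2
  refine ⟨?_, hwN, Subgroup.subset_closure ⟨none, rfl⟩⟩
  have h1 := hw _ (hφ μ)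
  rw [D.odd.rel_gen, zpow_neg_one] at h1
  have h2 := mul_mem (mul_mem (inv_mem (hφ (-μ⁻¹))) h1)
    (inv_mem (mul_mem hwN (hφ (-μ⁻¹))))
  have h3 : (φ (-μ⁻¹))⁻¹ * (φ (-μ⁻¹) * h⁻¹ * w * φ (-μ⁻¹)) * (w * φ (-μ⁻¹))⁻¹ = h⁻¹ := by group
  rw [h3] at h2
  simpa using inv_mem h2

end LineData

section Perms

/-- Translation of the projective line. -/
def lineU (t : ZMod p) : Perm (Option (ZMod p)) := Equiv.optionCongr (Equiv.addLeft t)

/-- Multiplication on the projective line. -/
def lineH (a : ZMod p) (ha : a ≠ 0) : Perm (Option (ZMod p)) :=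
  Equiv.optionCongr (Equiv.mulLeft₀ a ha)

/-- The map `t ↦ -1/t`. -/
def lineWFun : Option (ZMod p) → Option (ZMod p) :=
  fun o => o.elim (some 0) fun t => if t = 0 then none else some (-t⁻¹)

theorem lineWFun_sq : Function.Involutive (lineWFun (p := p)) := by
  intro o
  rcases o with _ | t
  · simp [lineWFun]
  · by_cases ht : t = 0 <;> simp [lineWFun, ht]

/-- The inversion of the projective line. -/
def lineW : Perm (Option (ZMod p)) := (lineWFun_sq (p := p)).toPerm _

@[simp] theorem lineU_none (t : ZMod p) : lineU t none = none := rfl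

@[simp] theorem lineU_some (t s : ZMod p) : lineU t (some s) = some (t + s) := rfl

@[simp] theorem lineH_none (a : ZMod p) (ha : a ≠ 0) : lineH a ha none = none := rfl

@[simp] theorem lineH_some (a : ZMod p) (ha : a ≠ 0) (s : ZMod p) :
    lineH a ha (some s) = some (a * s) := rfl

@[simp] theorem lineW_none : (lineW : Perm (Option (ZMod p))) none = some 0 := rfl

theorem lineW_some (t : ZMod p) :
    (lineW : Perm (Option (ZMod p))) (some t) = if t = 0 then none else some (-t⁻¹) := rfl

set_option maxHeartbeats 1000000 in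
theorem oddData_line {μ : ZMod p} (hμ : μ ≠ 0) :
    OddData (Perm (Option (ZMod p))) (lineU 1) (lineH (μ * μ) (mul_ne_zero hμ hμ)) lineW lineU μ 0 0
      (-1) := by
  set H := lineH (μ * μ) (mul_ne_zero hμ hμ)
  have hH : ∀ o, H⁻¹ o = lineH (μ * μ)⁻¹ (inv_ne_zero (mul_ne_zero hμ hμ)) o := by
    intro o
    rw [Perm.inv_eq_iff_eq]
    rcases o with _ | t
    · rfl
    · simp [H, ← mul_assoc, hμ]
  have hW : (lineW : Perm (Option (ZMod p))) * lineW = 1 := Equiv.ext fun o => lineWFun_sq o
  have hrel : ∀ a : ZMod p, a ≠ 0 → ∀ (K : Perm (Option (ZMod p))) (b : ZMod p) (hb : b ≠ 0),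
      (∀ o, K o = lineH b hb o) → b = a⁻¹ * a⁻¹ →
      lineW * lineU a * lineW = lineU (-a⁻¹) * K * lineW * lineU (-a⁻¹) := by
    intro a ha K b hb hK hba
    ext1 o
    simp only [Perm.mul_apply, hK]
    rcases o with _ | t
    · simp [lineW_some, ha]
    · by_cases ht : t = 0
      · subst ht
        simp [lineW_some, ha, hba]
      · by_cases hta : a + -t⁻¹ = 0
        · have : t = a⁻¹ := by
            field_simp at hta
            field_simp
            linear_combination hta
          subst this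
          simp [lineW_some, ha]
        · have hd : -a⁻¹ + t ≠ 0 := by
            intro e
            apply hta
            rw [show t = a⁻¹ by linear_combination e, inv_inv]; ring
          have h1 : -1 + a * t ≠ 0 := fun e => hd (by
            field_simp
            linear_combination e)
          simp [lineW_some, ht, hta, hd, hba]
          field_simp
          try simp [h1]
          all_goals first
            | ring1
            | (rw [add_comm (a * t) (-1), mul_div_assoc, div_self h1, mul_one])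
            | (rw [← sub_mul, show a * t - 1 = -1 + a * t by ring, mul_inv_cancel₀ h1])
  refine ⟨⟨fun s t => ?_, rfl, fun t => ?_⟩, ?_, ?_, ?_, ?_⟩
  · ext1 o; rcases o with _ | r <;> simp [add_assoc]
  · rw [mul_inv_eq_iff_eq_mul]
    ext1 o; rcases o with _ | r <;> simp [H, mul_add]
  · rw [mul_inv_eq_iff_eq_mul]
    ext1 o
    simp only [Perm.mul_apply, hH]
    rcases o with _ | r
    · simp [H]
    · by_cases hr : r = 0 <;> simp [H, lineW_some, hr, hμ, mul_inv_rev, mul_comm, mul_left_comm, mul_assoc]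
  · rw [zpow_zero, hW]
  · have := hrel 1 one_ne_zero 1 1 one_ne_zero (fun o => by rcases o with _ | t <;> simp) (by simp)
    rwa [inv_one, ← zpow_zero (lineH (μ * μ) (mul_ne_zero hμ hμ))] at this
  · exact hrel μ hμ _ _ _ (fun o => by rw [zpow_neg_one]; exact hH o) (by rw [mul_inv])

end Perms

end CfsgLib.AltPres
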